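import Groth.Statements.S9740
import Groth.Agent.Lib.Thickening_helper7

set_option autoImplicit false
universe u
open OmegaSh

namespace Groth.Agent.S9740

open AlgebraicGeometry CategoryTheory Limits in
/-- Let h : Z ⟶ X be formally unramified with universal first order thickening (i : Z ⟶ Z', h' : Z' ⟶
X), let V ⊆ Z and U ⊆ X be opens with h(V) ⊆ U, and let V' ⊆ Z' be the open with i⁻¹(V') = V (so
h'(V') ⊆ U). Then the restricted pair (V ⟶ V', V' ⟶ U) is a universal first-order thickening for the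
restriction V ⟶ U of h. The published statement also asserts that this restriction is formally
unramified and that the conormal sheaf of Z over X restricts on V to that of V over U; this row
states only the thickening part. -/
theorem result {Z Z' X : Scheme.{u}} (h : Z ⟶ X) [FormallyUnramified h] (i : Z ⟶ Z') (h' : Z' ⟶ X)
    (hu : OmegaSh.IsUnivThickening h i h') (V : Z.Opens) (U : X.Opens) (hVU : V ≤ h ⁻¹ᵁ U)
    (V' : Z'.Opens) (hV' : i ⁻¹ᵁ V' = V) (hV'U : V' ≤ h' ⁻¹ᵁ U) :
    OmegaSh.IsUnivThickening (h.resLE U V hVU) (i.resLE V' V hV'.ge) (h'.resLE U V' hV'U) := by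
  obtain ⟨hi, hic, hu3⟩ := hu
  subst hV'
  refine ⟨?_, ?_, ?_⟩
  · rw [Scheme.Hom.resLE_eq_morphismRestrict]
    exact Groth.Agent.Lib.Thickening_helper7.fot_morphismRestrict i hi V'
  · rw [← cancel_mono U.ι]
    simp only [Category.assoc, Scheme.Hom.resLE_comp_ι, Scheme.Hom.resLE_comp_ι_assoc, hic]
  · intro T T' t β α ht hw
    have hw' : t ≫ (β ≫ U.ι) = (α ≫ (i ⁻¹ᵁ V').ι) ≫ h := by
      rw [← Category.assoc, hw, Category.assoc, Category.assoc, Scheme.Hom.resLE_comp_ι]
    obtain ⟨a', ⟨ha1, ha2⟩, hau⟩ := hu3 T T' t (β ≫ U.ι) (α ≫ (i ⁻¹ᵁ V').ι) ht hw'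
    have hsurj : Function.Surjective t := ht.1.2.surj
    have hrange : Set.range a' ⊆ Set.range V'.ι := by
      rintro _ ⟨y, rfl⟩
      obtain ⟨x, rfl⟩ := hsurj y
      have e1 : a' (t x) = i ((i ⁻¹ᵁ V').ι (α x)) := by
        have := congrArg (fun k : T ⟶ Z' => k x) ha1
        simpa using this
      rw [e1, Scheme.Opens.range_ι]
      exact (α x).2
    refine ⟨IsOpenImmersion.lift V'.ι a' hrange, ⟨?_, ?_⟩, ?_⟩
    · rw [← cancel_mono V'.ι, Category.assoc, IsOpenImmersion.lift_fac, ha1, Category.assoc,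
        Category.assoc, Scheme.Hom.resLE_comp_ι]
    · rw [← cancel_mono U.ι, Category.assoc, Scheme.Hom.resLE_comp_ι,
        IsOpenImmersion.lift_fac_assoc, ha2]
    · rintro a₂ ⟨h1, h2⟩
      rw [← cancel_mono V'.ι, IsOpenImmersion.lift_fac]
      apply hau
      refine ⟨?_, ?_⟩
      · rw [← Category.assoc, h1, Category.assoc, Scheme.Hom.resLE_comp_ι, Category.assoc]
      · rw [← h2, Category.assoc, Category.assoc, Scheme.Hom.resLE_comp_ι]

end Groth.Agent.S9740
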