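import Groth.Statements.S9741
import Groth.Agent.Lib.Thickening_helper7

set_option autoImplicit false
universe u
open OmegaSh

namespace Groth.Agent.S9741

open AlgebraicGeometry CategoryTheory Limits in
/-- Let a : Z ⟶ Y and b : Y ⟶ X be formally unramified, let (i : Z ⟶ Z', c : Z' ⟶ X) be universal among
first order thickenings of Z relative to X (for a ≫ b), and (j : Y ⟶ Y', d : Y' ⟶ X) likewise for Y
relative to X (for b). Then there is a morphism of thickenings m : Z' ⟶ Y' over X (i ≫ m = a ≫ j and
m ≫ d = c) such that Z ⟶ Y ×_{Y'} Z' (components a and i), together with the projection to Y, is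
universal among first order thickenings of Z relative to Y (for a). The published statement also
asserts an exact sequence of conormal sheaves; this row states only the thickening assertion. -/
theorem result {Z Y X Z' Y' : Scheme.{u}} (a : Z ⟶ Y) (b : Y ⟶ X)
    [FormallyUnramified a] [FormallyUnramified b] (i : Z ⟶ Z') (c : Z' ⟶ X) (hZ : OmegaSh.IsUnivThickening (a ≫ b) i c)
    (j : Y ⟶ Y') (d : Y' ⟶ X) (hY : OmegaSh.IsUnivThickening b j d) :
    ∃ (m : Z' ⟶ Y') (hm : i ≫ m = a ≫ j), m ≫ d = c ∧
      OmegaSh.IsUnivThickening a (pullback.lift a i hm.symm) (pullback.fst j m) := by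
  obtain ⟨hi, hic, hZu⟩ := hZ
  obtain ⟨hj, hjd, hYu⟩ := hY
  obtain ⟨m, ⟨hm1, hm2⟩, -⟩ := hYu Z Z' i c a hi (by rw [hic])
  refine ⟨m, hm1, hm2, ?_, pullback.lift_fst _ _ _, ?_⟩
  · haveI : IsClosedImmersion j := hj.1.1
    apply Groth.Agent.Lib.Thickening_helper7.fot_of_comp (pullback.lift a i hm1.symm)
      (pullback.snd j m)
    rw [pullback.lift_snd]
    exact hi
  · intro T T' t β α ht hw
    obtain ⟨γ, ⟨hγ1, hγ2⟩, hγu⟩ := hZu T T' t (β ≫ b) α ht
      (by rw [← Category.assoc, hw, Category.assoc])
    have hγm : β ≫ j = γ ≫ m := by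
      obtain ⟨δ, -, hδu⟩ := hYu T T' t (β ≫ b) (α ≫ a) ht (by rw [← Category.assoc, hw])
      have e1 := hδu (β ≫ j)
        ⟨by rw [← Category.assoc, hw, Category.assoc], by rw [Category.assoc, hjd]⟩
      have e2 := hδu (γ ≫ m)
        ⟨by rw [← Category.assoc, hγ1, Category.assoc, hm1, Category.assoc],
          by rw [Category.assoc, hm2, hγ2]⟩
      rw [e1, e2]
    refine ⟨pullback.lift β γ hγm, ⟨?_, pullback.lift_fst _ _ _⟩, ?_⟩
    · apply pullback.hom_ext
      · rw [Category.assoc, Category.assoc, pullback.lift_fst, pullback.lift_fst, hw]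
      · rw [Category.assoc, Category.assoc, pullback.lift_snd, pullback.lift_snd, hγ1]
    · rintro α' ⟨h1, h2⟩
      apply pullback.hom_ext
      · rw [h2, pullback.lift_fst]
      · rw [pullback.lift_snd]
        apply hγu
        refine ⟨?_, ?_⟩
        · rw [← Category.assoc, h1, Category.assoc, pullback.lift_snd]
        · rw [← hm2, Category.assoc, ← pullback.condition_assoc, ← Category.assoc α', h2, hjd]

end Groth.Agent.S9741
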