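import Groth.Statements.S9756
import Mathlib
import Groth.Agent.Lib.FibReg6_helper8

set_option autoImplicit false
universe u
open FlatMor

namespace Groth.Agent.S9756

open AlgebraicGeometry CategoryTheory Limits in
/-- Let f : X ⟶ S be locally of finite presentation and flat at a point x, and assume the local ring of
the fibre X_{f x} at x has depth at least 1. Then there are an affine open U ∋ x and a
nonzerodivisor h' of Γ(X, U) vanishing at x such that the closed subscheme V(h') of U, an effective
Cartier divisor through x, is flat and locally of finite presentation over S. The published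
statement concludes that V(h') ⟶ S is of finite presentation; this row concludes only that it is
flat and locally of finite presentation, which is what the published argument (slicing by a lift of
a fibrewise nonzerodivisor) yields, and which is equivalent when S is quasi-separated, V(h') being
affine. -/
theorem result {X S : Scheme.{u}} (f : X ⟶ S) [LocallyOfFinitePresentation f] (x : X)
    (hflat : (f.stalkMap x).hom.Flat)
    (hdepth : 1 ≤ LocCoh.depth ↑((f.fiber (f x)).presheaf.stalk (f.asFiber x)) ↑((f.fiber (f x)).presheaf.stalk (f.asFiber x))) :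
    ∃ (U : X.Opens) (hU : IsAffineOpen U) (hx : x ∈ U) (h' : Γ(X, U)), h' ∈ nonZeroDivisors Γ(X, U) ∧
      X.presheaf.germ U x hx h' ∈ IsLocalRing.maximalIdeal ↑(X.presheaf.stalk x) ∧
      Flat (Spec.map (CommRingCat.ofHom (Ideal.Quotient.mk (Ideal.span {h'}))) ≫ hU.fromSpec ≫ f) ∧
      LocallyOfFinitePresentation (Spec.map (CommRingCat.ofHom (Ideal.Quotient.mk (Ideal.span {h'}))) ≫ hU.fromSpec ≫ f) := by
  obtain ⟨a, ham, hanzd⟩ :=
    Groth.Agent.Lib.FibRegH8.exists_nonZeroDivisor_of_one_le_depth _ hdepth
  have hmk := Ideal.Quotient.mk_surjective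
    ((Groth.Agent.FibStalkIso.fibStalkEquiv f x).symm a)
  obtain ⟨h, hh⟩ := hmk
  have hreg : Ideal.Quotient.mk (Ideal.map (f.stalkMap x).hom
        (IsLocalRing.maximalIdeal (S.presheaf.stalk (f x)))) h ∈
      nonZeroDivisors (X.presheaf.stalk x ⧸ Ideal.map (f.stalkMap x).hom
        (IsLocalRing.maximalIdeal (S.presheaf.stalk (f x)))) := by
    refine mem_nonZeroDivisors_of_injective
      (f := (Groth.Agent.FibStalkIso.fibStalkEquiv f x))
      (Groth.Agent.FibStalkIso.fibStalkEquiv f x).injective ?_
    have : (Groth.Agent.FibStalkIso.fibStalkEquiv f x)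
        (Ideal.Quotient.mk (Ideal.map (f.stalkMap x).hom
          (IsLocalRing.maximalIdeal (S.presheaf.stalk (f x)))) h) = a := by
      rw [show Ideal.Quotient.mk (Ideal.map (f.stalkMap x).hom
          (IsLocalRing.maximalIdeal (S.presheaf.stalk (f x)))) h =
          (Groth.Agent.FibStalkIso.fibStalkEquiv f x).symm a from hh]
      exact RingEquiv.apply_symm_apply _ a
    rw [this]
    exact hanzd
  have hm : h ∈ IsLocalRing.maximalIdeal (X.presheaf.stalk x) := by
    rw [IsLocalRing.mem_maximalIdeal, mem_nonunits_iff]
    intro hu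
    have h1 : IsUnit ((Groth.Agent.FibStalkIso.fibStalkEquiv f x)
        (Ideal.Quotient.mk (Ideal.map (f.stalkMap x).hom
          (IsLocalRing.maximalIdeal (S.presheaf.stalk (f x)))) h)) :=
      (hu.map _).map _
    rw [show Ideal.Quotient.mk (Ideal.map (f.stalkMap x).hom
          (IsLocalRing.maximalIdeal (S.presheaf.stalk (f x)))) h =
          (Groth.Agent.FibStalkIso.fibStalkEquiv f x).symm a from hh,
      RingEquiv.apply_symm_apply] at h1
    exact (IsLocalRing.mem_maximalIdeal _).mp ham h1
  obtain ⟨U, hU, hx, h', hgerm, hnzd, hF, hL⟩ :=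
    Groth.Agent.Lib.FibRegH8.slice_flat f x hflat h hreg
  exact ⟨U, hU, hx, h', hnzd, hgerm ▸ hm, hF, hL⟩

end Groth.Agent.S9756
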