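import Groth.Statements.S9792
import Mathlib

set_option autoImplicit false
universe u
open CategoryTheory AlgebraicGeometry TopologicalSpace
open Props

namespace Groth.Agent.S9792

/-- In a Noetherian scheme, every infinite set of points contains an infinite subset no two distinct
members of which are related by specialization. -/
theorem result (S : Scheme.{u}) [IsNoetherian S]
    (T : Set S) (hT : T.Infinite) :
    ∃ T' : Set S, T' ⊆ T ∧ T'.Infinite ∧ ∀ a ∈ T', ∀ b ∈ T', a ⤳ b → a = b := by
  classical
  -- an injective sequence in T
  let e := hT.natEmbedding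
  let f : ℕ → S := fun n => (e n : S)
  have hfT : ∀ n, f n ∈ T := fun n => (e n).2
  have hfinj : Function.Injective f := fun a b h => e.injective (Subtype.ext h)
  haveI : IsTrans S (fun x y => x ⤳ y) := ⟨fun _ _ _ h1 h2 => h1.trans h2⟩
  obtain ⟨g, hg⟩ := exists_increasing_or_nonincreasing_subseq (fun x y : S => x ⤳ y) f
  rcases hg with hg | hg
  · -- infinite chain of specializations: closures strictly decrease
    exfalso
    let c : ℕ → TopologicalSpace.Closeds S := fun n =>
      ⟨closure {f (g n)}, isClosed_closure⟩
    have hc : StrictAnti c := by
      intro m n hmn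
      refine lt_of_le_of_ne ?_ ?_
      · exact (hg m n hmn).closure_subset
      · intro heq
        have h1 : f (g m) ⤳ f (g n) := hg m n hmn
        have h2 : f (g n) ⤳ f (g m) := by
          rw [specializes_iff_closure_subset]
          exact (congrArg (fun c : TopologicalSpace.Closeds S => (c : Set S)) heq).ge
        have := (h1.antisymm h2).eq
        exact (ne_of_lt hmn) (g.injective (hfinj this))
    exact not_strictAnti_of_wellFoundedLT c hc
  · haveI : IsTrans S (fun x y => y ⤳ x) := ⟨fun _ _ _ h1 h2 => h2.trans h1⟩
    obtain ⟨g', hg'⟩ := exists_increasing_or_nonincreasing_subseq (fun x y : S => y ⤳ x)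
      (fun n => f (g n))
    rcases hg' with hg' | hg'
    · -- infinite chain of generizations: coheight of the first point is infinite
      exfalso
      let x : ℕ → S := fun n => f (g (g' n))
      have hx : StrictMono x := by
        intro m n hmn
        refine ⟨hg' m n hmn, fun h => ?_⟩
        have h1 : x n ⤳ x m := hg' m n hmn
        have := (h1.antisymm h).eq
        exact (ne_of_lt hmn) (g'.injective (g.injective (hfinj this))).symm
      have htop : Order.coheight (x 0) = ⊤ := by
        rw [Order.coheight_eq_top_iff]
        intro n
        refine ⟨⟨n, fun i => x i, fun i => hx (by simp)⟩, rfl, rfl⟩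
      have hdim := AlgebraicGeometry.ringKrullDim_stalk_eq_coheight (x 0)
      rw [htop] at hdim
      exact ringKrullDim_ne_top hdim
    · refine ⟨Set.range (fun n => f (g (g' n))), ?_, ?_, ?_⟩
      · rintro _ ⟨n, rfl⟩
        exact hfT _
      · apply Set.infinite_range_of_injective
        intro a b h
        exact g'.injective (g.injective (hfinj h))
      · rintro _ ⟨m, rfl⟩ _ ⟨n, rfl⟩ hsp
        rcases lt_trichotomy m n with hmn | rfl | hmn
        · exact absurd hsp (hg (g' m) (g' n) (g'.strictMono hmn))
        · rfl
        · exact absurd hsp (hg' n m hmn)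

end Groth.Agent.S9792
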