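import Groth.Statements.S9793
import Groth.Agent.Lib.GDomainSch_helper6
-- import your own Groth.Agent.* helpers here

set_option autoImplicit false
universe u
open CategoryTheory AlgebraicGeometry TopologicalSpace
open Props

namespace Groth.Agent.S9793

/-- Let S be a Noetherian scheme and T a set of points of S. Every point of T is a specialization of
some point of T which admits no non-trivial generization lying in T. -/
theorem result (S : Scheme.{u}) [IsNoetherian S]
    (T : Set S) (t : S) (ht : t ∈ T) :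
    ∃ t₀ ∈ T, (∀ t' ∈ T, t' ⤳ t₀ → t' = t₀) ∧ t₀ ⤳ t := by
  classical
  obtain ⟨U, hU, htU, -⟩ :=
    TopologicalSpace.Opens.isBasis_iff_nbhd.mp S.isBasis_affineOpens
      (TopologicalSpace.Opens.mem_top t)
  haveI : IsNoetherianRing Γ(S, U) := IsLocallyNoetherian.component_noetherian ⟨U, hU⟩
  -- all generizations of t are in U
  have hmemU : ∀ s : S, s ⤳ t → s ∈ U := fun s hs => hs.mem_open U.isOpen htU
  let A : Set S := {s | s ∈ T ∧ s ⤳ t}
  have hA : A.Nonempty := ⟨t, ht, specializes_rfl⟩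
  let h : S → ℕ∞ := fun s => if hs : s ∈ U then (hU.primeIdealOf ⟨s, hs⟩).asIdeal.height else 0
  obtain ⟨t₀, ht₀A, hmin⟩ := WellFounded.has_min (InvImage.wf h wellFounded_lt) A hA
  refine ⟨t₀, ht₀A.1, fun t' ht'T ht' => ?_, ht₀A.2⟩
  have ht'A : t' ∈ A := ⟨ht'T, ht'.trans ht₀A.2⟩
  have h0U := hmemU t₀ ht₀A.2
  have h1U := hmemU t' ht'A.2
  have hle : (hU.primeIdealOf ⟨t', h1U⟩).asIdeal ≤ (hU.primeIdealOf ⟨t₀, h0U⟩).asIdeal :=
    (Groth.Agent.Lib.GDomain.primeIdealOf_le_iff hU h1U h0U).mpr ht'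
  have hnlt := hmin t' ht'A
  simp only [InvImage, h, dif_pos h0U, dif_pos h1U] at hnlt
  by_contra hne
  apply hnlt
  have hlt : (hU.primeIdealOf ⟨t', h1U⟩).asIdeal < (hU.primeIdealOf ⟨t₀, h0U⟩).asIdeal := by
    refine lt_of_le_of_ne hle (fun heq => hne ?_)
    have h3 : hU.primeIdealOf ⟨t', h1U⟩ = hU.primeIdealOf ⟨t₀, h0U⟩ := PrimeSpectrum.ext heq
    have h4 := congrArg (fun p => hU.fromSpec p) h3
    simp only [hU.fromSpec_primeIdealOf] at h4
    exact h4
  exact Ideal.height_strict_mono_of_isPrime_of_isPrime hlt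


end Groth.Agent.S9793
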