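import Groth.Statements.S9794
import Mathlib

set_option autoImplicit false
universe u
open CategoryTheory AlgebraicGeometry TopologicalSpace
open Props

namespace Groth.Agent.S9794

/-- In a Noetherian quasi-sober T0 space in which every point has finite coheight for the
specialization order, every dense subset contains a countable dense subset. -/
theorem exists_countable_dense_of_noetherian {X : Type*} [TopologicalSpace X] [NoetherianSpace X]
    [QuasiSober X] [T0Space X]
    (hwf : ∀ x : X, @Order.coheight X (specializationPreorder X) x < ⊤)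
    (T : Set X) (hd : Dense T) : ∃ E : Set X, E ⊆ T ∧ E.Countable ∧ Dense E := by
  classical
  letI := specializationPreorder X
  let G : Set X := {x | ∃ E : Set X, E ⊆ T ∧ E.Countable ∧ closure E = closure {x}}
  have hTG : T ⊆ G := fun t ht => ⟨{t}, by simpa using ht, Set.countable_singleton t, rfl⟩
  have hA : ∀ E' : Set X, E' ⊆ G → E'.Countable →
      ∃ E : Set X, E ⊆ T ∧ E.Countable ∧ closure E = closure E' := by
    intro E' hE' hc
    have hE'' : ∀ x ∈ E', ∃ E : Set X, E ⊆ T ∧ E.Countable ∧ closure E = closure {x} := hE'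
    choose! Ef hEf using hE''
    refine ⟨⋃ x ∈ E', Ef x, ?_, ?_, ?_⟩
    · exact Set.iUnion₂_subset fun x hx => (hEf x hx).1
    · exact hc.biUnion fun x hx => (hEf x hx).2.1
    · apply subset_antisymm
      · apply closure_minimal _ isClosed_closure
        refine Set.iUnion₂_subset fun x hx => ?_
        calc Ef x ⊆ closure (Ef x) := subset_closure
          _ = closure {x} := (hEf x hx).2.2
          _ ⊆ closure E' := closure_mono (Set.singleton_subset_iff.mpr hx)
      · apply closure_minimal _ isClosed_closure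
        intro x hx
        have : x ∈ closure (Ef x) := by rw [(hEf x hx).2.2]; exact subset_closure rfl
        exact closure_mono (Set.subset_biUnion_of_mem (u := fun y => Ef y) hx) this
  have hB : ∀ s : Closeds X, ∀ E : Set X, E ⊆ T → E.Countable → closure E = (s : Set X) →
      ∃ F : Set X, F.Finite ∧ F ⊆ G ∧ (s : Set X) ⊆ ⋃ v ∈ F, closure {v} := by
    intro s
    refine wellFounded_lt.induction (C := fun s : Closeds X => ∀ E : Set X, E ⊆ T → E.Countable →
      closure E = (s : Set X) →
      ∃ F : Set X, F.Finite ∧ F ⊆ G ∧ (s : Set X) ⊆ ⋃ v ∈ F, closure {v}) s ?_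
    intro s H E hET hEc hEs
    rcases eq_or_ne s ⊥ with rfl | h₀
    · exact ⟨∅, Set.finite_empty, Set.empty_subset _, by simp⟩
    by_cases h₁ : IsPreirreducible (s : Set X)
    · have hirr : IsIrreducible (s : Set X) := ⟨Closeds.coe_nonempty.2 h₀, h₁⟩
      obtain ⟨v, hv⟩ := QuasiSober.sober hirr s.isClosed
      refine ⟨{v}, Set.finite_singleton v, ?_, ?_⟩
      · rintro _ rfl
        exact ⟨E, hET, hEc, hEs.trans hv.def.symm⟩
      · simp [hv.def]
    · simp only [isPreirreducible_iff_isClosed_union_isClosed, not_forall, not_or] at h₁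
      obtain ⟨z₁, z₂, hz₁, hz₂, h, hz₁', hz₂'⟩ := h₁
      have hcl : ∀ z : Set X, IsClosed z → ¬ (s : Set X) ⊆ z →
          ∃ F : Set X, F.Finite ∧ F ⊆ G ∧ closure (E ∩ z) ⊆ ⋃ v ∈ F, closure {v} := by
        intro z hz hsz
        let s' : Closeds X := ⟨closure (E ∩ z), isClosed_closure⟩
        have hs's : s' < s := by
          refine lt_of_le_of_ne ?_ ?_
          · show closure (E ∩ z) ⊆ (s : Set X)
            rw [← hEs]; exact closure_mono Set.inter_subset_left
          · intro heq
            apply hsz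
            have : (s : Set X) = closure (E ∩ z) := by rw [← heq]; rfl
            rw [this]; exact closure_minimal Set.inter_subset_right hz
        exact H s' hs's (E ∩ z) (Set.inter_subset_left.trans hET) (hEc.mono Set.inter_subset_left)
          rfl
      obtain ⟨F₁, hF₁, hF₁G, h₁⟩ := hcl z₁ hz₁ hz₁'
      obtain ⟨F₂, hF₂, hF₂G, h₂⟩ := hcl z₂ hz₂ hz₂'
      refine ⟨F₁ ∪ F₂, hF₁.union hF₂, Set.union_subset hF₁G hF₂G, ?_⟩
      have hE : E = (E ∩ z₁) ∪ (E ∩ z₂) := by
        rw [← Set.inter_union_distrib_left]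
        exact (Set.inter_eq_left.mpr ((subset_closure.trans hEs.subset).trans h)).symm
      rw [← hEs, hE, closure_union]
      refine Set.union_subset (h₁.trans ?_) (h₂.trans ?_)
      · exact Set.biUnion_subset_biUnion_left Set.subset_union_left
      · exact Set.biUnion_subset_biUnion_left Set.subset_union_right
  have hmax : ∀ g ∈ G, ∃ m ∈ G, m ⤳ g ∧ ∀ y ∈ G, y ⤳ m → y = m := by
    intro g hg
    let A : Set X := {y | y ∈ G ∧ y ⤳ g}
    have hne : (Order.coheight '' A).Nonempty := ⟨_, g, ⟨hg, specializes_rfl⟩, rfl⟩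
    obtain ⟨_, ⟨m, hmA, rfl⟩, hmin⟩ := wellFounded_lt.has_min _ hne
    refine ⟨m, hmA.1, hmA.2, fun y hy hym => ?_⟩
    by_contra hne'
    have hlt : m < y := by
      refine lt_of_le_not_ge hym ?_
      intro hmy
      exact hne' ((hym.antisymm hmy).eq)
    exact hmin _ ⟨y, ⟨hy, hym.trans hmA.2⟩, rfl⟩ (Order.coheight_strictAnti hlt (hwf y))
  let M : Set X := {m | m ∈ G ∧ ∀ y ∈ G, y ⤳ m → y = m}
  have hMfin : M.Finite := by
    by_contra hinf
    have hinf' : M.Infinite := hinf
    let e := hinf'.natEmbedding M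
    let E' : Set X := Set.range (fun n => (e n : X))
    have hE'M : E' ⊆ M := by rintro _ ⟨n, rfl⟩; exact (e n).2
    have hE'c : E'.Countable := Set.countable_range _
    have hE'inf : E'.Infinite :=
      Set.infinite_range_of_injective (Subtype.val_injective.comp e.injective)
    obtain ⟨E, hET, hEc, hEcl⟩ := hA E' (fun x hx => (hE'M hx).1) hE'c
    obtain ⟨F, hF, hFG, hcov⟩ := hB ⟨closure E, isClosed_closure⟩ E hET hEc rfl
    apply hE'inf
    refine hF.subset fun m hm => ?_
    have hmE : m ∈ closure E := by rw [hEcl]; exact subset_closure hm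
    obtain ⟨v, hvF, hv⟩ := Set.mem_iUnion₂.mp (hcov hmE)
    have hvm : v ⤳ m := specializes_iff_mem_closure.mpr hv
    rw [← (hE'M hm).2 v (hFG hvF) hvm]; exact hvF
  have hTM : T ⊆ ⋃ m ∈ M, closure {m} := by
    intro t ht
    obtain ⟨m, hmG, hmt, hmmax⟩ := hmax t (hTG ht)
    exact Set.mem_iUnion₂.mpr ⟨m, ⟨hmG, hmmax⟩, specializes_iff_mem_closure.mp hmt⟩
  obtain ⟨E, hET, hEc, hEcl⟩ := hA M (fun m hm => hm.1) hMfin.countable
  refine ⟨E, hET, hEc, ?_⟩
  rw [dense_iff_closure_eq, hEcl, ← Set.univ_subset_iff, ← hd.closure_eq]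
  apply closure_minimal _ isClosed_closure
  exact hTM.trans (Set.iUnion₂_subset fun m hm => closure_mono (Set.singleton_subset_iff.mpr hm))

/-- In a Noetherian scheme, an infinite dense set of points contains a countable subset which is dense. -/
theorem result (S : Scheme.{u}) [IsNoetherian S]
    (T : Set S) (hT : T.Infinite) (hd : Dense T) :
    ∃ E : Set S, E ⊆ T ∧ E.Countable ∧ Dense E := by
  refine exists_countable_dense_of_noetherian (X := S) (fun x => ?_) T hd
  have h := ringKrullDim_lt_top (R := S.presheaf.stalk x)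
  rw [ringKrullDim_stalk_eq_coheight] at h
  exact WithBot.coe_lt_coe.mp h

end Groth.Agent.S9794
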