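import Groth.Statements.S9830
import Mathlib

set_option autoImplicit false
universe u
open CategoryTheory AlgebraicGeometry TopologicalSpace
open Props

namespace Groth.Agent.S9830

/-- A scheme whose underlying space is Hausdorff is separated. (The published statement assumes X of
dimension zero; a Hausdorff scheme always has dimension at most zero, so this row omits that
hypothesis.) -/
theorem result (X : Scheme.{u}) [T2Space X] : X.IsSeparated := by
  haveI : QuasiSeparated (Limits.terminal.from X) :=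
    (quasiSeparatedSpace_iff_quasiSeparated X).mp inferInstance
  refine ⟨IsSeparated.of_valuativeCriterion _ ?_⟩
  intro S
  refine ⟨fun l₁ l₂ => ?_⟩
  suffices h : l₁.l = l₂.l by
    cases l₁; cases l₂; cases h; rfl
  set ι := Spec.map (CommRingCat.ofHom (algebraMap S.R S.K)) with hι
  have hinj : Function.Injective (algebraMap S.R S.K) := IsFractionRing.injective S.R S.K
  haveI : IsDominant ι := ⟨by
    show DenseRange (PrimeSpectrum.comap (algebraMap S.R S.K))
    rw [PrimeSpectrum.denseRange_comap_iff_ker_le_nilRadical,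
      (RingHom.injective_iff_ker_eq_bot _).mp hinj]
    exact bot_le⟩
  have hconst : ∀ (l : Spec (.of S.R) ⟶ X) (p : Spec (.of S.R)),
      l p = l (⊥ : PrimeSpectrum S.R) := by
    intro l p
    have h : (⊥ : PrimeSpectrum S.R) ⤳ (p : PrimeSpectrum S.R) :=
      (PrimeSpectrum.le_iff_specializes _ _).mp bot_le
    exact ((h.map l.continuous).eq).symm
  have h12 : ι ≫ l₁.l = ι ≫ l₂.l := l₁.fac_left.trans l₂.fac_left.symm
  let q : Spec (.of S.R) := ι (⊥ : PrimeSpectrum S.K)
  have hq : l₁.l q = l₂.l q := by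
    have := congrArg (fun f : Spec (.of S.K) ⟶ X => f (⊥ : PrimeSpectrum S.K)) h12
    simpa using this
  obtain ⟨U, hU, hxU⟩ : ∃ U : X.Opens, IsAffineOpen U ∧ l₁.l (⊥ : PrimeSpectrum S.R) ∈ U := by
    obtain ⟨_, ⟨U, hU, rfl⟩, hxU, -⟩ := X.isBasis_affineOpens.exists_subset_of_mem_open
      (Set.mem_univ (l₁.l (⊥ : PrimeSpectrum S.R))) isOpen_univ
    exact ⟨U, hU, hxU⟩
  have hr1 : Set.range l₁.l ⊆ Set.range U.ι := by
    rw [Scheme.Opens.range_ι]; rintro _ ⟨p, rfl⟩; rw [hconst l₁.l p]; exact hxU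
  have hr2 : Set.range l₂.l ⊆ Set.range U.ι := by
    rw [Scheme.Opens.range_ι]; rintro _ ⟨p, rfl⟩
    rw [hconst l₂.l p, ← hconst l₂.l q, ← hq, hconst l₁.l q]; exact hxU
  haveI : IsAffine U := hU
  have : IsOpenImmersion.lift U.ι l₁.l hr1 = IsOpenImmersion.lift U.ι l₂.l hr2 := by
    apply ext_of_isDominant (ι := ι)
    rw [← cancel_mono U.ι]
    simp only [Category.assoc, IsOpenImmersion.lift_fac]
    exact h12
  rw [← IsOpenImmersion.lift_fac U.ι l₁.l hr1, this, IsOpenImmersion.lift_fac]

end Groth.Agent.S9830
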