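import Groth.Statements.S9798
import Mathlib
-- import your own Groth.Agent.* helpers here

set_option autoImplicit false
universe u
open CategoryTheory AlgebraicGeometry TopologicalSpace
open Props

namespace Groth.Agent.S9798

/-- A point of a locally Noetherian scheme has local dimension zero exactly when it is isolated. -/
theorem result (X : Scheme.{u}) [IsLocallyNoetherian X] (x : X) :
    FlatMor.localDim X x = 0 ↔ IsOpen ({x} : Set X) := by
  unfold FlatMor.localDim
  constructor
  · intro h
    haveI : Nonempty {U : TopologicalSpace.Opens X // x ∈ U} := ⟨⟨⊤, trivial⟩⟩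
    obtain ⟨⟨U, hxU⟩, hU⟩ := ciInf_mem
      (fun U : {U : TopologicalSpace.Opens X // x ∈ U} => topologicalKrullDim (U.1 : Set X))
    rw [h] at hU
    have hdim : topologicalKrullDim (U : Scheme.{u}) ≤ 0 := le_of_eq hU
    haveI : IsLocallyArtinian (U : Scheme.{u}) :=
      IsLocallyArtinian.of_topologicalKrullDim_le_zero hdim
    haveI : DiscreteTopology (U : Scheme.{u}) := inferInstance
    let x' : (U : Scheme.{u}) := ⟨x, hxU⟩
    have hop : IsOpen ({x'} : Set (U : Scheme.{u})) := isOpen_discrete _
    have h2 := (Scheme.Opens.ι U).isOpenEmbedding.isOpenMap _ hop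
    rw [Set.image_singleton] at h2
    exact h2
  · intro h
    apply le_antisymm
    · refine (iInf_le _ (⟨⟨{x}, h⟩, rfl⟩ : {U : TopologicalSpace.Opens X // x ∈ U})).trans ?_
      haveI : DiscreteTopology (({x} : Set X)) := inferInstance
      exact topologicalKrullDim_zero_of_discreteTopology _
    · refine le_iInf ?_
      rintro ⟨U, hxU⟩
      haveI : Nonempty (TopologicalSpace.IrreducibleCloseds (U : Set X)) :=
        ⟨⟨closure {⟨x, hxU⟩}, isIrreducible_singleton.closure, isClosed_closure⟩⟩
      exact Order.krullDim_nonneg


end Groth.Agent.S9798
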