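import Groth.Statements.S9799
import Mathlib
import Groth.Agent.Lib.SchIrredComp_helper7

set_option autoImplicit false
universe u
open CategoryTheory AlgebraicGeometry TopologicalSpace
open Props

namespace Groth.Agent.S9799

/-- Let X be a normal scheme (all local rings are integrally closed domains) such that every
quasi-compact open subset has finitely many irreducible components. Then the irreducible components
of X are open and pairwise disjoint; hence X is the disjoint union of its irreducible components,
each an open subscheme which is normal and integral. -/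
theorem result (X : Scheme.{u})
    (hfin : ∀ U : X.Opens, IsCompact (U : Set X) → (irreducibleComponents ↥U).Finite)
    (hN : Pi1.IsNormalScheme X) :
    (∀ Z ∈ irreducibleComponents X, IsOpen Z) ∧
      ∀ Z ∈ irreducibleComponents X, ∀ Z' ∈ irreducibleComponents X, Z ≠ Z' → Disjoint Z Z' := by
  have hX : ∀ x : X, IsDomain (X.presheaf.stalk x) := fun x => (hN x).1
  refine ⟨fun Z hZ => ?_, fun Z hZ Z' hZ' hne => ?_⟩
  · rw [isOpen_iff_forall_mem_open]
    intro x hx
    obtain ⟨U, hU, hxU⟩ : ∃ U : X.Opens, IsAffineOpen U ∧ x ∈ U := by
      obtain ⟨_, ⟨U, hU, rfl⟩, hxU, -⟩ := X.isBasis_affineOpens.exists_subset_of_mem_open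
        (Set.mem_univ x) isOpen_univ
      exact ⟨U, hU, hxU⟩
    have hUdom : ∀ y : U.toScheme, IsDomain (U.toScheme.presheaf.stalk y) := fun y =>
      haveI := hX y.1
      MulEquiv.isDomain (X.presheaf.stalk y.1)
        (U.stalkIso y).commRingCatIsoToRingEquiv.toMulEquiv
    have hUfin : (irreducibleComponents U.toScheme).Finite := hfin U hU.isCompact
    let y : U.toScheme := ⟨x, hxU⟩
    have hWopen : IsOpen (irreducibleComponent y) :=
      Groth.Agent.Lib.SchIrredCompH7.isOpen_of_mem_irreducibleComponents U.toScheme hUdom hUfin
        (irreducibleComponent_mem_irreducibleComponents y)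
    have hWirr : IsIrreducible (irreducibleComponent y) := isIrreducible_irreducibleComponent
    have hyW : x ∈ U.ι '' (irreducibleComponent y) := ⟨y, mem_irreducibleComponent, rfl⟩
    refine ⟨U.ι '' (irreducibleComponent y), ?_,
      U.ι.isOpenEmbedding.isOpenMap _ hWopen, hyW⟩
    have himg : IsIrreducible (U.ι '' (irreducibleComponent y)) :=
      hWirr.image _ U.ι.continuous.continuousOn
    obtain ⟨Z'', hZ'', hsub⟩ := exists_mem_irreducibleComponents_subset_of_isIrreducible _ himg
    have hxZ'' : x ∈ Z'' := hsub hyW
    haveI := hX x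
    rw [Groth.Agent.Lib.SchIrredCompH7.eq_of_mem_irreducibleComponents X x hZ hZ'' hx hxZ'']
    exact hsub
  · rw [Set.disjoint_left]
    intro x hx hx'
    haveI := hX x
    exact hne (Groth.Agent.Lib.SchIrredCompH7.eq_of_mem_irreducibleComponents X x hZ hZ' hx hx')

end Groth.Agent.S9799
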