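import Groth.Statements.S9800
import Mathlib
import Groth.Agent.Lib.StalkDim_helper7

set_option autoImplicit false
universe u
open CategoryTheory AlgebraicGeometry TopologicalSpace
open Props

namespace Groth.Agent.S9800

/-- A locally Noetherian normal scheme of dimension at most one is regular, that is, all of its local
rings are regular local rings. -/
theorem result (X : Scheme.{u})
    [IsLocallyNoetherian X] (hN : Pi1.IsNormalScheme X) (hd : topologicalKrullDim X ≤ 1) (x : X) :
    IsRegularLocalRing (X.presheaf.stalk x) := by
  obtain ⟨hdom, hic⟩ := hN x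
  have hdim : ringKrullDim (X.presheaf.stalk x) ≤ 1 :=
    (Groth.Agent.Lib.StalkDimH7.ringKrullDim_stalk_le_topologicalKrullDim X x).trans hd
  haveI : Ring.KrullDimLE 1 (X.presheaf.stalk x) := Ring.krullDimLE_iff.mpr hdim
  haveI : Ring.DimensionLEOne (X.presheaf.stalk x) :=
    ⟨fun {p} hp hpp => Ring.krullDimLE_one_iff_of_noZeroDivisors.mp inferInstance p hp hpp⟩
  haveI : IsDedekindDomain (X.presheaf.stalk x) := { }
  infer_instance

end Groth.Agent.S9800
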