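import Groth.Statements.S9801
import Mathlib
import Groth.Agent.Lib.SerreNormal_helper5
import Groth.Agent.Lib.DimGenFib_helper8
import Groth.Agent.Lib.DepthLoc_helper5

set_option autoImplicit false
universe u
open CategoryTheory AlgebraicGeometry TopologicalSpace
open Props

namespace Groth.Agent.S9801

/-- A locally Noetherian normal scheme of dimension at most two is Cohen-Macaulay, that is, all of its
local rings are Cohen-Macaulay local rings. -/
theorem result (X : Scheme.{u})
    [IsLocallyNoetherian X] (hN : Pi1.IsNormalScheme X) (hd : topologicalKrullDim X ≤ 2) (x : X) :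
    LocCoh.IsCohenMacaulayLocalRing (X.presheaf.stalk x) := by
  obtain ⟨hdom, hic⟩ := hN x
  haveI := hdom
  haveI := hic
  have h1 := Groth.Agent.SerreLib.min_two_dim_le_depth (X.presheaf.stalk x)
  have h2 : ringKrullDim (X.presheaf.stalk x) ≤ 2 :=
    (Groth.Agent.DimGenFibH8.stalk_dim_le_topDim X x).trans hd
  rw [min_eq_right h2] at h1
  have h3 := Groth.Agent.DepthLib.depth_le_supportDim (X.presheaf.stalk x) (X.presheaf.stalk x)
  refine { supportDim_eq_depth := ?_ }
  rw [Module.supportDim_self_eq_ringKrullDim] at h3 ⊢
  exact le_antisymm h1 h3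

end Groth.Agent.S9801
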