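import Groth.Statements.S9802
import Groth.Agent.Lib.NagataSch_helper1

set_option autoImplicit false
universe u
open CategoryTheory AlgebraicGeometry TopologicalSpace
open Props

namespace Groth.Agent.S9802

/-- A locally Noetherian scheme is Nagata (every affine open has a Nagata coordinate ring) if and only
if every integral closed subscheme is Japanese (every nonempty affine open of it has an N-2
coordinate ring). -/
theorem result (X : Scheme.{u})
    [IsLocallyNoetherian X] :
    (∀ U : X.Opens, IsAffineOpen U → CAlg.IsNagata Γ(X, U)) ↔
      ∀ (Z : Scheme.{u}) (i : Z ⟶ X) [IsClosedImmersion i] [IsIntegral Z]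
        (V : Z.Opens) [Nonempty V], IsAffineOpen V → CAlg.IsN2 Γ(Z, V) := by
  exact ⟨fun H Z i _ _ V _ hV => Groth.Agent.Lib.NagataSchH1.japanese_of_nagata X H Z i V hV,
    fun H U hU => Groth.Agent.Lib.NagataSchH1.nagata_of_japanese X H U hU⟩

end Groth.Agent.S9802
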