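import Groth.Statements.S9804
import Mathlib

set_option autoImplicit false
universe u
open CategoryTheory AlgebraicGeometry TopologicalSpace
open Props

open CategoryTheory.Limits
namespace Groth.Agent.S9804

/-- In a quasi-compact quasi-separated scheme, if `X_r` is affine then the basic open `D(r)` of
`Spec Γ(X)` lies in the range of `X ⟶ Spec Γ(X)`. -/
theorem basicOpen_subset_range_toSpecΓ (X : Scheme.{u}) [CompactSpace X] [QuasiSeparatedSpace X]
    (r : Γ(X, ⊤)) (hr : IsAffineOpen (X.basicOpen r)) :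
    ((PrimeSpectrum.basicOpen r : Set (PrimeSpectrum Γ(X, ⊤)))) ⊆ Set.range X.toSpecΓ := by
  have hloc := isLocalization_basicOpen_of_qcqs (X := X) (U := ⊤) isCompact_univ
    isQuasiSeparated_univ r
  have h1 := Scheme.Opens.toSpecΓ_SpecMap_presheaf_map_top (X.basicOpen r)
  have hiso : IsIso (X.basicOpen r).toSpecΓ := hr.isoSpec_hom ▸ inferInstance
  intro t ht
  letI := (X.presheaf.map (homOfLE (le_top : X.basicOpen r ≤ ⊤)).op).hom.toAlgebra
  have hrange := PrimeSpectrum.localization_away_comap_range Γ(X, X.basicOpen r) r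
  rw [← hrange] at ht
  obtain ⟨s, rfl⟩ := ht
  refine ⟨(X.basicOpen r).ι ((inv (X.basicOpen r).toSpecΓ) s), ?_⟩
  rw [← Scheme.Hom.comp_apply, ← h1, ← Scheme.Hom.comp_apply, IsIso.inv_hom_id_assoc]
  rfl

/-- For quasi-affine schemes U and V and an open immersion j : U → V, the scheme U is the fibre product
of the composite U → V → Spec Γ(V, O_V) and the morphism Spec Γ(U, O_U) → Spec Γ(V, O_V) induced by
restriction of sections along j: the square whose sides are the identity of U, the canonical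
morphism U → Spec Γ(U, O_U), that composite and that induced morphism is cartesian. -/
theorem result {U V : Scheme.{u}} (j : U ⟶ V)
    [IsOpenImmersion j] [U.IsQuasiAffine] [V.IsQuasiAffine] :
    IsPullback (𝟙 U) U.toSpecΓ (j ≫ V.toSpecΓ) (Spec.map j.appTop) := by
  have hw : 𝟙 U ≫ (j ≫ V.toSpecΓ) = U.toSpecΓ ≫ Spec.map j.appTop := by
    rw [Category.id_comp, Scheme.toSpecΓ_naturality]
  have key : ∀ t : Spec Γ(U, ⊤), Spec.map j.appTop t ∈ Set.range (j ≫ V.toSpecΓ) →
      t ∈ Set.range U.toSpecΓ := by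
    rintro t ⟨u, hu⟩
    obtain ⟨_, ⟨_, ⟨g, hg, rfl⟩, rfl⟩, hug, hgU⟩ := (Scheme.IsQuasiAffine.isBasis_basicOpen
      V).exists_subset_of_mem_open (show j u ∈ (j.opensRange : Set V) from ⟨u, rfl⟩)
      j.opensRange.2
    have haff : IsAffineOpen (U.basicOpen (j.appTop g)) := by
      rw [← Scheme.preimage_basicOpen_top]
      rw [← Scheme.Hom.isAffineOpen_iff_of_isOpenImmersion j]
      convert hg using 1
      refine le_antisymm ?_ ?_
      · rintro _ ⟨x, hx, rfl⟩; exact hx
      · intro y hy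
        obtain ⟨x, rfl⟩ := hgU hy
        exact ⟨x, hy, rfl⟩
    apply basicOpen_subset_range_toSpecΓ U (j.appTop g) haff
    show t ∈ PrimeSpectrum.basicOpen (j.appTop g)
    have h2 : Spec.map j.appTop t ∈ PrimeSpectrum.basicOpen g := by
      rw [← hu, Scheme.Hom.comp_apply]
      have := V.toSpecΓ_preimage_basicOpen g
      have h3 : j u ∈ V.toSpecΓ ⁻¹ᵁ PrimeSpectrum.basicOpen g := by rw [this]; exact hug
      exact h3
    exact h2
  refine ⟨⟨hw⟩, ⟨PullbackCone.IsLimit.mk _ (fun s => s.fst) (fun s => by simp) (fun s => ?_)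
    (fun s m h1 h2 => by simpa using h1)⟩⟩
  have hrange : Set.range s.snd ⊆ Set.range U.toSpecΓ := by
    rintro _ ⟨w, rfl⟩
    apply key
    refine ⟨s.fst w, ?_⟩
    rw [← Scheme.Hom.comp_apply, s.condition, Scheme.Hom.comp_apply]
  have hy' := IsOpenImmersion.lift_fac U.toSpecΓ s.snd hrange
  have : IsOpenImmersion.lift U.toSpecΓ s.snd hrange = s.fst := by
    rw [← cancel_mono (j ≫ V.toSpecΓ), s.condition]
    conv_rhs => rw [← hy']
    rw [Category.assoc, ← hw]
    simp
  rw [← this, hy']

end Groth.Agent.S9804
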