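import Groth.Statements.S9805
import Groth.Agent.Lib.FLF2_helper8

set_option autoImplicit false
universe u
open CategoryTheory AlgebraicGeometry TopologicalSpace
open Props

namespace Groth.Agent.S9805

/-- A quasi-coherent module on a scheme is flat and of finite presentation if and only if it is finite
locally free. -/
theorem result (X : Scheme.{u}) (M : X.Modules) (hM : Coh.IsQCoh M) :
    (FlatMod.IsFlat M ∧ CohB1.IsFP M) ↔ FlatMod.IsFinLocFree M := by
  haveI : M.IsQuasicoherent := hM
  constructor
  · rintro ⟨hflat, hfp⟩ x
    haveI : SheafOfModules.IsFinitePresentation (R := X.ringCatSheaf) M := hfp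
    haveI : Module.Finite (X.presheaf.stalk x) (M.presheaf.stalk x) := FLFH8.finite_stalk M x
    haveI : Module.Flat (X.presheaf.stalk x) (M.presheaf.stalk x) := hflat x
    exact FLFH8.exists_free_nhd M x Module.free_of_flat_of_isLocalRing
  · intro h
    refine ⟨fun x => ?_, FLFH8.isFinitePresentation_of_finLocFree M h⟩
    haveI := FLFH8.free_stalk_of_finLocFree M h x
    exact (inferInstance : Module.Flat (X.presheaf.stalk x) (M.presheaf.stalk x))

end Groth.Agent.S9805
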