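import Groth.Statements.S9809
import Groth.Agent.Lib.PunctConn3_helper3
import Groth.Agent.Lib.PunctConn4_helper3
import Groth.Agent.Lib.FibBranch1_helper3
-- import your own Groth.Agent.* helpers here

set_option autoImplicit false
universe u
open CategoryTheory AlgebraicGeometry TopologicalSpace
open Groth.Agent.Lib.PunctConnH3
open Props

namespace Groth.Agent.S9809

/-- A Noetherian scheme is geometrically unibranch (all local rings geometrically unibranch) if and only
if at every point which is not the generic point of an irreducible component, the punctured spectrum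
of a strict henselization of the local ring is connected. -/
theorem result
    (X : Scheme.{u}) [IsNoetherian X] :
    (∀ x : X, CAlg2.IsGeomUnibranch (X.presheaf.stalk x)) ↔
      ∀ (x : X), closure ({x} : Set X) ∉ irreducibleComponents X →
        ∀ (Ash : Type u) [CommRing Ash] [IsLocalRing Ash] [Algebra (X.presheaf.stalk x) Ash]
          [IsLocalHom (algebraMap (X.presheaf.stalk x) Ash)]
          [Hensel.IsStrictHenselization (X.presheaf.stalk x) Ash],
          ConnectedSpace ↥({IsLocalRing.closedPoint Ash}ᶜ : Set (PrimeSpectrum Ash)) := by
  constructor
  · intro hgu x hx Ash _ _ _ _ _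
    apply connectedSpace_punctured_of_isGeomUnibranch (X.presheaf.stalk x) Ash (hgu x)
    intro hmin
    exact hx (closure_mem_irreducibleComponents_of_minimal x hmin)
  · intro H
    have key : ∀ n : ℕ, ∀ x : X, ringKrullDim (X.presheaf.stalk x) ≤ n →
        CAlg2.IsGeomUnibranch (X.presheaf.stalk x) := by
      intro n
      induction n using Nat.strong_induction_on with
      | _ n ih =>
        intro x hxn
        by_cases hx : closure ({x} : Set X) ∈ irreducibleComponents X
        · apply isGeomUnibranch_of_maximalIdeal_mem_minimalPrimes
          exact maximalIdeal_mem_minimalPrimes_of_forall x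
            (fun y hy => eq_of_specializes_of_mem_irreducibleComponents hx hy)
        · haveI := Groth.Agent.Lib.StrictHens.isStrictHenselization_shens
            (R := X.presheaf.stalk x)
          apply isGeomUnibranch_of_connected (X.presheaf.stalk x)
            (Groth.Agent.Lib.StrictHens.SHens (X.presheaf.stalk x)) _
            (H x hx (Groth.Agent.Lib.StrictHens.SHens (X.presheaf.stalk x)))
          intro p _ hp
          obtain ⟨x₀, h, rfl⟩ := Groth.Agent.StalkGen.exists_genPrime_eq x p
          obtain ⟨e⟩ := nonempty_stalk_equiv_atPrime h
          rw [← Groth.Agent.Lib.FibBranchH3.numGeomBranches_eq_of_ringEquiv e,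
            Groth.Agent.Lib.HensBranchesH3.numGeomBranches_eq_one_iff]
          have hdim : ringKrullDim (X.presheaf.stalk x₀) =
              ((Groth.Agent.StalkGen.genPrime h).height : WithBot ℕ∞) :=
            Groth.Agent.StalkGen.ringKrullDim_stalk_eq_height h
          have hlt : (Groth.Agent.StalkGen.genPrime h).height <
              (IsLocalRing.maximalIdeal (X.presheaf.stalk x)).height :=
            Ideal.height_strict_mono_of_isPrime_of_isPrime (lt_of_le_of_ne
              (IsLocalRing.le_maximalIdeal (Ideal.IsPrime.ne_top inferInstance)) hp)
          have hm : ((IsLocalRing.maximalIdeal (X.presheaf.stalk x)).height : WithBot ℕ∞) ≤ n := by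
            rw [IsLocalRing.maximalIdeal_height_eq_ringKrullDim]
            exact hxn
          have hfin : (Groth.Agent.StalkGen.genPrime h).height ≠ ⊤ := ne_top_of_lt hlt
          obtain ⟨k, hk⟩ := ENat.ne_top_iff_exists.mp hfin
          have hkn : k < n := by
            have h1 : ((Groth.Agent.StalkGen.genPrime h).height : WithBot ℕ∞) <
                (n : WithBot ℕ∞) := lt_of_lt_of_le (WithBot.coe_lt_coe.mpr hlt) hm
            rw [← hk] at h1
            exact_mod_cast h1
          apply ih k hkn x₀
          rw [hdim, ← hk]
          exact_mod_cast le_rfl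
    intro x
    have hfin : (IsLocalRing.maximalIdeal (X.presheaf.stalk x)).height ≠ ⊤ :=
      Ideal.height_ne_top (Ideal.IsPrime.ne_top inferInstance)
    obtain ⟨n, hn⟩ := ENat.ne_top_iff_exists.mp hfin
    refine key n x ?_
    rw [← IsLocalRing.maximalIdeal_height_eq_ringKrullDim, ← hn]
    exact_mod_cast le_rfl

end Groth.Agent.S9809
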