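import Groth.Statements.S9812
import Mathlib

set_option autoImplicit false
universe u
open CAlg2

namespace Groth.Agent.S9812

/-- At the level of the local ring: an integrally closed local domain is geometrically unibranch.
Consequently a normal scheme is geometrically unibranch. -/
theorem result (A : Type u) [CommRing A] [IsLocalRing A]
    [IsDomain A] [IsIntegrallyClosed A] : CAlg2.IsGeomUnibranch A := by
  have hnil : nilradical A = ⊥ := nilradical_eq_zero A
  let e : A ≃+* (A ⧸ nilradical A) :=
    ((Ideal.quotEquivOfEq hnil).trans (RingEquiv.quotientBot A)).symm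
  haveI hprime : (nilradical A).IsPrime := hnil ▸ Ideal.isPrime_bot
  haveI hdom : IsDomain (A ⧸ nilradical A) := Ideal.Quotient.isDomain _
  haveI : IsLocalRing (A ⧸ nilradical A) := e.isLocalRing
  haveI : IsIntegrallyClosed (A ⧸ nilradical A) := IsIntegrallyClosed.of_equiv e
  have hbot : integralClosure (A ⧸ nilradical A) (FractionRing (A ⧸ nilradical A)) = ⊥ :=
    IsIntegrallyClosed.integralClosure_eq_bot (A ⧸ nilradical A) (FractionRing (A ⧸ nilradical A))
  have hsurj : Function.Surjective (algebraMap (A ⧸ nilradical A) (CAlg2.normRed A)) := by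
    intro x
    have hx : (x : FractionRing (A ⧸ nilradical A)) ∈
        (⊥ : Subalgebra (A ⧸ nilradical A) (FractionRing (A ⧸ nilradical A))) := hbot ▸ x.2
    obtain ⟨a, ha⟩ := Algebra.mem_bot.mp hx
    exact ⟨a, Subtype.ext ha⟩
  refine ⟨⟨hdom, ?_⟩, ?_⟩
  · exact IsLocalRing.of_surjective' _ hsurj
  · intro m' _ x
    obtain ⟨y, rfl⟩ := Ideal.Quotient.mk_surjective x
    obtain ⟨a₀, rfl⟩ := hsurj y
    obtain ⟨a, rfl⟩ := Ideal.Quotient.mk_surjective a₀
    exact ⟨0, by rw [pow_zero, pow_one]; exact ⟨a, rfl⟩⟩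

end Groth.Agent.S9812
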