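import Groth.Statements.S9822
import Mathlib

set_option autoImplicit false
universe u
open CategoryTheory CategoryTheory.Limits AlgebraicGeometry TopologicalSpace Opposite
open Props

namespace Groth.Agent.S9822

/-- A scheme is irreducible if and only if it is nonempty and every nonempty affine open subset is
irreducible. -/
theorem result (X : Scheme.{u}) :
    IrreducibleSpace X ↔ Nonempty X ∧ ∀ U : X.Opens, IsAffineOpen U → (U : Set X).Nonempty → IsIrreducible (U : Set X) := by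
  constructor
  · intro hX
    refine ⟨inferInstance, fun U _ hne => ⟨hne, ?_⟩⟩
    exact (PreirreducibleSpace.isPreirreducible_univ (X := X)).open_subset U.isOpen
      (Set.subset_univ _)
  · rintro ⟨hne, h⟩
    haveI : Nonempty X := hne
    refine { isPreirreducible_univ := ?_, toNonempty := hne }
    rintro u v hu hv ⟨x, -, hx⟩ ⟨y, -, hy⟩
    by_contra hcon
    have hdisj : u ∩ v = ∅ := by
      rw [Set.eq_empty_iff_forall_notMem]
      intro z hz
      exact hcon ⟨z, Set.mem_univ _, hz⟩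
    obtain ⟨U₁, hU₁, hxU₁, hU₁u⟩ : ∃ U₁ : X.Opens, U₁ ∈ X.affineOpens ∧ x ∈ U₁ ∧
        U₁ ≤ (⟨u, hu⟩ : X.Opens) :=
      TopologicalSpace.Opens.isBasis_iff_nbhd.mp X.isBasis_affineOpens
        (show x ∈ (⟨u, hu⟩ : X.Opens) from hx)
    obtain ⟨U₂, hU₂, hyU₂, hU₂v⟩ : ∃ U₂ : X.Opens, U₂ ∈ X.affineOpens ∧ y ∈ U₂ ∧
        U₂ ≤ (⟨v, hv⟩ : X.Opens) :=
      TopologicalSpace.Opens.isBasis_iff_nbhd.mp X.isBasis_affineOpens
        (show y ∈ (⟨v, hv⟩ : X.Opens) from hy)
    have hd : Disjoint U₁ U₂ := by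
      rw [disjoint_iff]
      ext z
      simp only [TopologicalSpace.Opens.coe_inf, Set.mem_inter_iff, SetLike.mem_coe,
        TopologicalSpace.Opens.coe_bot, Set.mem_empty_iff_false, iff_false, not_and]
      intro h1 h2
      have : z ∈ u ∩ v := ⟨hU₁u h1, hU₂v h2⟩
      rw [hdisj] at this
      exact this
    have hW : IsAffineOpen (U₁ ⊔ U₂) := IsAffineOpen.sup_of_disjoint hU₁ hU₂ hd
    have hirr := h (U₁ ⊔ U₂) hW ⟨x, Or.inl hxU₁⟩
    obtain ⟨z, -, hz1, hz2⟩ := hirr.2 U₁ U₂ U₁.isOpen U₂.isOpen ⟨x, Or.inl hxU₁, hxU₁⟩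
      ⟨y, Or.inr hyU₂, hyU₂⟩
    have : z ∈ u ∩ v := ⟨hU₁u hz1, hU₂v hz2⟩
    rw [hdisj] at this
    exact this

end Groth.Agent.S9822
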