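import Groth.Statements.S9824
import Groth.Agent.Lib.FLF2_helper8

set_option autoImplicit false
universe u
open CategoryTheory CategoryTheory.Limits AlgebraicGeometry TopologicalSpace Opposite
open Props

namespace Groth.Agent.S9824

/-- Over a reduced scheme, a quasi-coherent module is finite locally free if and only if it is of finite
type and its fibre rank (the dimension of the stalk tensored with the residue field) is a locally
constant function. -/
theorem result (X : Scheme.{u}) [IsReduced X]
    (M : X.Modules) [Coh.IsQCoh M] :
    FlatMod.IsFinLocFree M ↔ CohB1.IsFT M ∧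
      IsLocallyConstant (fun x : X => Module.finrank (IsLocalRing.ResidueField (X.presheaf.stalk x))
          (TensorProduct (X.presheaf.stalk x) (IsLocalRing.ResidueField (X.presheaf.stalk x)) (M.presheaf.stalk x))) := by
  haveI : M.IsQuasicoherent := ‹Coh.IsQCoh M›
  constructor
  · intro h
    haveI := FLFH8.isFinitePresentation_of_finLocFree M h
    refine ⟨inferInstance, ?_⟩
    rw [IsLocallyConstant.iff_exists_open]
    intro x
    obtain ⟨W, hW, hxW, r, g, hg, hli⟩ := FLFH8.exists_affine_basis M h x
    refine ⟨W, W.isOpen, hxW, ?_⟩
    have key : ∀ y ∈ W, Module.finrank (IsLocalRing.ResidueField (X.presheaf.stalk y))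
        (TensorProduct (X.presheaf.stalk y) (IsLocalRing.ResidueField (X.presheaf.stalk y))
          (M.presheaf.stalk y)) = r := by
      intro y hy
      obtain ⟨hfree, hrank⟩ := FLFH8.free_stalk_of_basis M hW hy g hg hli
      haveI := hfree
      rw [Module.finrank_baseChange, hrank]
    intro y hy
    rw [key y hy, key x hxW]
  · rintro ⟨hft, hlc⟩ x
    haveI : SheafOfModules.IsFiniteType (R := X.ringCatSheaf) M := hft
    set r := Module.finrank (IsLocalRing.ResidueField (X.presheaf.stalk x))
        (TensorProduct (X.presheaf.stalk x) (IsLocalRing.ResidueField (X.presheaf.stalk x))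
          (M.presheaf.stalk x)) with hr
    let O : X.Opens := ⟨_, hlc.isOpen_fiber r⟩
    have hxO : x ∈ O := hr.symm
    haveI : Module.Finite (X.presheaf.stalk x) (M.presheaf.stalk x) := FLFH8.finite_stalk M x
    obtain ⟨γ, hγ⟩ := FLFH8.exists_span_of_finrank_fibre (R := X.presheaf.stalk x)
      (M := M.presheaf.stalk x) r hr.symm
    obtain ⟨U, hxU, -, hU⟩ := FLFH8.exists_free_nhd_of_fibre_rank M hxO γ hγ
      (fun y hy => (show _ = r from hy).ge)
    exact ⟨U, r, hxU, hU⟩

end Groth.Agent.S9824
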