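import Groth.Statements.S9841
import Groth.Agent.Lib.AlgSpReduced_helper7

set_option autoImplicit false
open CategoryTheory CategoryTheory.Limits AlgebraicGeometry Opposite
universe u
open Desc

namespace Groth.Agent.S9841

/-- Being reduced is local in the smooth topology: for a jointly surjective family of smooth morphisms f
i : X i ⟶ S, the scheme S is reduced if and only if every X i is reduced. -/
theorem result {ι : Type u} {S : Scheme.{u}} {X : ι → Scheme.{u}} (f : ∀ i, X i ⟶ S)
    (hf : Presieve.ofArrows X f ∈ Scheme.precoverage @Smooth S) :
    IsReduced S ↔ ∀ i, IsReduced (X i) := by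
  rw [Scheme.ofArrows_mem_precoverage_iff] at hf
  obtain ⟨hsurj, hsm⟩ := hf
  constructor
  · intro hS i
    haveI : Smooth (f i) := hsm i
    exact Groth.Agent.Lib.EtaleReduced_helper7.isReduced_of_smooth_scheme (f i)
  · intro h
    haveI : ∀ s : S, _root_.IsReduced (S.presheaf.stalk s) := by
      intro s
      obtain ⟨i, x, rfl⟩ := hsurj s
      haveI : Smooth (f i) := hsm i
      haveI : IsReduced (X i) := h i
      exact Groth.Agent.Lib.AlgSpReduced_helper7.isReduced_stalk_of_flat (f i) x inferInstance
    exact isReduced_of_isReduced_stalk S

end Groth.Agent.S9841
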