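import Groth.Statements.S9842
import Mathlib.AlgebraicGeometry.Sites.Fpqc
import Mathlib.AlgebraicGeometry.PullbackCarrier

set_option autoImplicit false
open CategoryTheory CategoryTheory.Limits AlgebraicGeometry Opposite
universe u
open Desc

namespace Groth.Agent.S9842

theorem dominant_iff_of_open_surjective {X Y Y' : Scheme.{u}} (f : X ⟶ Y) (g : Y' ⟶ Y)
    (hg : IsOpenMap g) (hs : Function.Surjective g) :
    IsDominant f ↔ IsDominant (pullback.snd f g) := by
  constructor
  · intro hf
    refine ⟨?_⟩
    rw [DenseRange, dense_iff_inter_open]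
    intro V' hV' hne
    have hopen : IsOpen (g '' V') := hg _ hV'
    obtain ⟨y, hy1, hy2⟩ := (dense_iff_inter_open.1 hf.denseRange) _ hopen (hne.image _)
    obtain ⟨v', hv', hv'y⟩ := hy1
    obtain ⟨x, rfl⟩ := hy2
    obtain ⟨z, hz1, hz2⟩ := Scheme.Pullback.exists_preimage_pullback (f := f) (g := g) x v'
      hv'y.symm
    exact ⟨v', hv', z, hz2⟩
  · intro h
    refine ⟨?_⟩
    rw [DenseRange, dense_iff_inter_open]
    intro V hV hne
    obtain ⟨y, hy⟩ := hne
    obtain ⟨y', rfl⟩ := hs y
    have hopen : IsOpen (g ⁻¹' V) := hV.preimage g.continuous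
    obtain ⟨w, hw1, hw2⟩ := (dense_iff_inter_open.1 h.denseRange) _ hopen ⟨y', hy⟩
    obtain ⟨z, rfl⟩ := hw2
    refine ⟨g (pullback.snd f g z), hw1, pullback.fst f g z, ?_⟩
    rw [← Scheme.Hom.comp_apply, ← Scheme.Hom.comp_apply, pullback.condition]

/-- Let E/k be a field extension, Y a scheme over k and f : X ⟶ Y a morphism. Writing Y_E = Y ×_k Spec
E, the morphism f is dominant if and only if its base change X ×_Y Y_E ⟶ Y_E is dominant. -/
theorem result {k E : Type u} [Field k] [Field E] [Algebra k E]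
    {X Y : Scheme.{u}} (f : X ⟶ Y) (q : Y ⟶ Spec (.of k)) :
    IsDominant f ↔
      IsDominant (pullback.snd f (pullback.fst q (Spec.map (CommRingCat.ofHom (algebraMap k E))))) := by
  haveI : Surjective (Spec.map (CommRingCat.ofHom (algebraMap k E))) :=
    ⟨fun x => ⟨default, Subsingleton.elim _ _⟩⟩
  exact dominant_iff_of_open_surjective f _
    (pullback.fst q (Spec.map (CommRingCat.ofHom (algebraMap k E)))).isOpenMap
    (pullback.fst q (Spec.map (CommRingCat.ofHom (algebraMap k E)))).surjective

end Groth.Agent.S9842
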