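import Groth.Statements.S9843
-- import your own Groth.Agent.* helpers here

set_option autoImplicit false
open CategoryTheory CategoryTheory.Limits AlgebraicGeometry Opposite
universe u
open Desc

namespace Groth.Agent.S9843

/-- Being dominant is fppf local on the base: for every fppf covering family Y i ⟶ Y (flat, locally of
finite presentation, jointly surjective), a morphism X ⟶ Y is dominant if and only if all its base
changes X ×_Y Y i ⟶ Y i are. -/
theorem result :
    MorphismProperty.IsLocalAtTarget (@IsDominant : MorphismProperty Scheme.{u}) Scheme.fppfPrecoverage := by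
  refine MorphismProperty.IsLocalAtTarget.mk_of_iff_of_zeroHypercover (fun {X Y} f 𝒰 => ?_)
  have hmem := 𝒰.mem₀
  unfold Scheme.fppfPrecoverage at hmem
  rw [Scheme.presieve₀_mem_precoverage_iff] at hmem
  obtain ⟨hsurj, hP⟩ := hmem
  constructor
  · intro hf i
    have h1 : Flat (𝒰.f i) := (hP i).1
    have h2 : LocallyOfFinitePresentation (𝒰.f i) := (hP i).2
    refine ⟨?_⟩
    rw [DenseRange, dense_iff_inter_open]
    intro V' hV' hne
    have hopen : IsOpen ((𝒰.f i) '' V') := (𝒰.f i).isOpenMap _ hV'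
    obtain ⟨y, hy1, hy2⟩ := (dense_iff_inter_open.1 hf.denseRange) _ hopen (hne.image _)
    obtain ⟨v', hv', hv'y⟩ := hy1
    obtain ⟨x, rfl⟩ := hy2
    obtain ⟨z, hz1, hz2⟩ := Scheme.Pullback.exists_preimage_pullback (f := f) (g := 𝒰.f i) x v'
      hv'y.symm
    exact ⟨v', hv', z, hz2⟩
  · intro h
    refine ⟨?_⟩
    rw [DenseRange, dense_iff_inter_open]
    intro V hV hne
    obtain ⟨y, hy⟩ := hne
    obtain ⟨i, y', rfl⟩ := hsurj y
    have hopen : IsOpen ((𝒰.f i) ⁻¹' V) := hV.preimage (𝒰.f i).continuous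
    obtain ⟨w, hw1, hw2⟩ := (dense_iff_inter_open.1 (h i).denseRange) _ hopen ⟨y', hy⟩
    obtain ⟨z, rfl⟩ := hw2
    refine ⟨(𝒰.f i) (pullback.snd f (𝒰.f i) z), hw1, pullback.fst f (𝒰.f i) z, ?_⟩
    rw [← Scheme.Hom.comp_apply, ← Scheme.Hom.comp_apply, pullback.condition]

end Groth.Agent.S9843
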