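import Groth.Statements.S9845


set_option autoImplicit false
open CategoryTheory CategoryTheory.Limits AlgebraicGeometry Opposite
universe u
open Desc

namespace Groth.Agent.S9845

/-- Being an open morphism (open underlying map) is fppf local on the source: for every fppf covering
family g i : X i ⟶ X, a morphism f : X ⟶ Y has open underlying map if and only if every composite g
i ≫ f does. -/
theorem result :
    MorphismProperty.IsLocalAtSource (topologically (fun f => IsOpenMap f) : MorphismProperty Scheme.{u})
      Scheme.fppfPrecoverage := by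
  have : (topologically (fun f => IsOpenMap f) : MorphismProperty Scheme.{u}).RespectsIso := by
    apply topologically_respectsIso
    · intro α β _ _ e; exact e.isOpenMap
    · intro α β γ _ _ _ f g hf hg; exact hg.comp hf
  refine MorphismProperty.IsLocalAtSource.mk_of_iff_of_zeroHypercover (fun {X Y} f 𝒰 => ?_)
  have hmem := 𝒰.mem₀
  unfold Scheme.fppfPrecoverage at hmem
  rw [Scheme.presieve₀_mem_precoverage_iff] at hmem
  obtain ⟨hsurj, hP⟩ := hmem
  constructor
  · intro hf i
    have h1 : Flat (𝒰.f i) := (hP i).1
    have h2 : LocallyOfFinitePresentation (𝒰.f i) := (hP i).2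
    have : IsOpenMap (𝒰.f i) := (𝒰.f i).isOpenMap
    show IsOpenMap (𝒰.f i ≫ f)
    rw [Scheme.Hom.comp_base, TopCat.coe_comp]
    exact IsOpenMap.comp hf this
  · intro h W hW
    have : f '' W = ⋃ i, (𝒰.f i ≫ f) '' ((𝒰.f i) ⁻¹' W) := by
      ext y
      simp only [Set.mem_image, Set.mem_iUnion, Set.mem_preimage]
      constructor
      · rintro ⟨x, hx, rfl⟩
        obtain ⟨i, z, rfl⟩ := hsurj x
        exact ⟨i, z, hx, by simp⟩
      · rintro ⟨i, z, hz, rfl⟩
        exact ⟨_, hz, by simp⟩
    rw [this]
    exact isOpen_iUnion fun i => h i _ (hW.preimage (𝒰.f i).continuous)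

end Groth.Agent.S9845
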