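import Groth.Statements.S9846
import Groth.Agent.S9845

set_option autoImplicit false
open CategoryTheory CategoryTheory.Limits AlgebraicGeometry Opposite
universe u
open Desc

namespace Groth.Agent.S9846

/-- Being universally open is fppf local on the source: for every fppf covering family g i : X i ⟶ X, a
morphism f : X ⟶ Y is universally open if and only if every composite g i ≫ f is. -/
theorem result :
    MorphismProperty.IsLocalAtSource (@UniversallyOpen : MorphismProperty Scheme.{u}) Scheme.fppfPrecoverage := by
  refine MorphismProperty.IsLocalAtSource.mk_of_iff_of_zeroHypercover (fun {X Y} f 𝒰 => ?_)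
  have hmem := 𝒰.mem₀
  unfold Scheme.fppfPrecoverage at hmem
  rw [Scheme.presieve₀_mem_precoverage_iff] at hmem
  obtain ⟨hsurj, hP⟩ := hmem
  constructor
  · intro hf i
    have h1 : Flat (𝒰.f i) := (hP i).1
    have h2 : LocallyOfFinitePresentation (𝒰.f i) := (hP i).2
    infer_instance
  · intro h
    refine ⟨fun X' Y' i₁ i₂ f' sq => ?_⟩
    have := Groth.Agent.S9845.result.{u}
    refine MorphismProperty.IsLocalAtSource.of_zeroHypercover (P := topologically (fun f => IsOpenMap f))
      (K := Scheme.fppfPrecoverage) (𝒰.pullback₁ i₁) (fun i => ?_)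
    have sq1 : IsPullback (pullback.fst i₁ (𝒰.f i)) (pullback.snd i₁ (𝒰.f i)) i₁ (𝒰.f i) :=
      IsPullback.of_hasPullback _ _
    have sq2 : IsPullback (pullback.fst i₁ (𝒰.f i) ≫ f') (pullback.snd i₁ (𝒰.f i)) i₂ (𝒰.f i ≫ f) :=
      sq1.flip.paste_vert sq.flip |>.flip
    exact (h i).universally_isOpenMap _ _ _ sq2

end Groth.Agent.S9846
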