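import Groth.Statements.S9847
import Groth.Agent.Lib.AlgSpLocP8_helper7

set_option autoImplicit false
open CategoryTheory CategoryTheory.Limits AlgebraicGeometry Opposite
universe u
open Desc

namespace Groth.Agent.S9847

/-- Being etale is etale local on the source: for every etale covering family g i : X i ⟶ X (etale,
jointly surjective), a morphism f : X ⟶ Y is etale if and only if every composite g i ≫ f is. -/
theorem result :
    MorphismProperty.IsLocalAtSource (@Etale : MorphismProperty Scheme.{u}) Scheme.etalePrecoverage := by
  haveI : MorphismProperty.RespectsIso (@Etale : MorphismProperty Scheme.{u}) := inferInstance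
  refine { comp := ?_, of_forall_comp := ?_ }
  · intro X Y f R hR U g hg hf
    have hge : AlgebraicGeometry.Etale g := hR.2 hg
    haveI := hge
    haveI : AlgebraicGeometry.Etale f := hf
    exact (inferInstance : AlgebraicGeometry.Etale (CategoryTheory.CategoryStruct.comp g f))
  · intro X Y f R hR h
    have h1 := hR.1
    rw [AlgebraicGeometry.Scheme.jointlySurjectivePrecoverage,
      CategoryTheory.Presieve.mem_comap_jointlySurjectivePrecoverage_iff] at h1
    choose U g hRg hxg using h1
    exact Groth.Agent.Lib.AlgSpLocP8_helper7.EtLocal.of_family
      Groth.Agent.Lib.AlgSpLocP7_helper7.etLocal_etale U g f (fun x => hR.2 (hRg x))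
      (fun x => ⟨x, hxg x⟩) (fun x => h (hRg x))

end Groth.Agent.S9847
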