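import Groth.Statements.S9851
import Mathlib
import Groth.Agent.Lib.ZarDesc2_helper6

set_option autoImplicit false
open CategoryTheory CategoryTheory.Limits AlgebraicGeometry Opposite
universe u
open Desc

namespace Groth.Agent.S9851

/-- Let f i : X i ⟶ S be a family of morphisms of schemes and X = ∐ X i with its morphism to S. The
canonical functor from descent data for schemes relative to X ⟶ S to descent data relative to the
family, which pulls a datum back along the coprojections X i ⟶ X, is an equivalence of categories.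
(The published statement names the quasi-inverse functor, sending a family (V i, φ ij) to (∐ V i, ∐
φ ij); asserting that the canonical pullback functor is an equivalence is the same result.) -/
theorem result {ι : Type u} {S : Scheme.{u}} {X : ι → Scheme.{u}} (f : ∀ i, X i ⟶ S) :
    (Desc.SchDDFam.ofSchDD (Sigma.desc f) ⋙
      Desc.pullDDFam (f := fun _ : PUnit.{u + 1} => Sigma.desc f) (f' := f) (α := fun _ => PUnit.unit)
        (p := 𝟙 S) (p' := fun i => Sigma.ι X i)
        (fun i => (Sigma.ι_desc f i).trans (Category.comp_id (f i)).symm)).IsEquivalence := by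
  have h1 : (Desc.SchDDFam.ofSchDD.{u, u} (Sigma.desc f)).IsEquivalence :=
    inferInstanceAs ((Desc.SchDDFam.oneEquiv.{u, u} (Sigma.desc f)).inverse).IsEquivalence
  have hcov : ∀ j : PUnit.{u + 1}, Presieve.ofArrows
      (fun i : {i : ι // (fun _ : ι => PUnit.unit.{u + 1}) i = j} => X i.1)
      (Groth.Agent.Lib.ZarDescH6.gj (V := fun _ : PUnit.{u + 1} => ∐ X)
        (α := fun _ : ι => PUnit.unit.{u + 1}) (fun i => Sigma.ι X i) j) ∈
      Scheme.zariskiPrecoverage (∐ X) := by
    intro j
    rw [Scheme.ofArrows_mem_precoverage_iff]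
    refine ⟨fun x => ?_, fun i => ?_⟩
    · obtain ⟨⟨i, y⟩, rfl⟩ := (sigmaMk X).surjective x
      refine ⟨⟨i, rfl⟩, y, ?_⟩
      rw [sigmaMk_mk]
      simp [Groth.Agent.Lib.ZarDescH6.gj]
    · show IsOpenImmersion (Sigma.ι X i.1 ≫ eqToHom _)
      infer_instance
  have h2 := Groth.Agent.Lib.ZarDescH6.isEquivalence (u := f)
    (v := fun _ : PUnit.{u + 1} => Sigma.desc f) (α := fun _ : ι => PUnit.unit.{u + 1})
    (fun i => Sigma.ι X i) (fun i => Sigma.ι_desc f i) hcov
    (fun i => (Sigma.ι_desc f i).trans (Category.comp_id (f i)).symm)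
  exact Functor.isEquivalence_trans _ _

end Groth.Agent.S9851
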