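import Groth.Statements.S9852
import Mathlib

set_option autoImplicit false
open CategoryTheory CategoryTheory.Limits AlgebraicGeometry Opposite
universe u
open Desc

namespace Groth.Agent.S9852

/-- Let g : X ⟶ X' be a morphism of schemes over S, with structure morphisms a : X ⟶ S and a' : X' ⟶ S,
and assume a is surjective and flat. Then the pullback functor along g, from descent data for
schemes relative to X' ⟶ S to descent data relative to X ⟶ S, is faithful. (Descent data relative to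
a single morphism are written as descent data relative to the corresponding one-member family.) -/
theorem result {X X' S : Scheme.{u}} (a : X ⟶ S) (a' : X' ⟶ S) (g : X ⟶ X')
    (h : g ≫ a' = a) [Surjective a] [Flat a] :
    (Desc.pullDDFam (f := fun _ : PUnit.{u + 1} => a') (f' := fun _ : PUnit.{u + 1} => a) (α := fun j => j)
        (p := 𝟙 S) (p' := fun _ => g) (fun _ => (h).trans (Category.comp_id a).symm)).Faithful := by
  refine ⟨fun {D D'} b c hbc => ?_⟩
  apply Desc.SchDDFam.hom_ext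
  funext i
  cases i
  apply Over.OverMorphism.ext
  -- notation
  have hpr : (pullback.fst ((D.obj ⟨⟩).hom ≫ a') a) ≫ (D.obj ⟨⟩).hom ≫ a' =
      (pullback.snd ((D.obj ⟨⟩).hom ≫ a') a ≫ g) ≫ a' := by
    rw [pullback.condition, Category.assoc, h]
  have hx : (pullback.fst ((D.obj ⟨⟩).hom ≫ a') a ≫ (D.obj ⟨⟩).hom) ≫ a' =
      (pullback.snd ((D.obj ⟨⟩).hom ≫ a') a ≫ g) ≫ a' := by
    rw [Category.assoc]; exact hpr
  let v₀ : Desc.Lifts (D.obj ⟨⟩) (pullback.fst ((D.obj ⟨⟩).hom ≫ a') a ≫ (D.obj ⟨⟩).hom) :=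
    ⟨pullback.fst ((D.obj ⟨⟩).hom ≫ a') a, rfl⟩
  let u := D.φ (i := PUnit.unit) (j := PUnit.unit) _ _ hx v₀
  have hu : u.1 ≫ (D.obj ⟨⟩).hom = pullback.snd ((D.obj ⟨⟩).hom ≫ a') a ≫ g := u.2
  have hb := b.comm (i := PUnit.unit) (j := PUnit.unit) _ _ hx v₀ (b.push v₀) rfl
  have hc := c.comm (i := PUnit.unit) (j := PUnit.unit) _ _ hx v₀ (c.push v₀) rfl
  have key : u.1 ≫ (b.hom ⟨⟩).left = u.1 ≫ (c.hom ⟨⟩).left := by
    have hl : pullback.lift u.1 (pullback.snd ((D.obj ⟨⟩).hom ≫ a') a) hu ≫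
        pullback.fst (D.obj ⟨⟩).hom g = u.1 := pullback.lift_fst _ _ _
    have mb : ∀ β : D ⟶ D', (Desc.SchDDFam.Hom.hom ((Desc.pullDDFam
        (f := fun _ : PUnit.{u + 1} => a') (f' := fun _ : PUnit.{u + 1} => a) (α := fun j => j)
        (p := 𝟙 S) (p' := fun _ => g) (fun _ => (h).trans (Category.comp_id a).symm)).map β)
        PUnit.unit).left ≫ pullback.fst (D'.obj ⟨⟩).hom g =
        pullback.fst (D.obj ⟨⟩).hom g ≫ (β.hom ⟨⟩).left := fun β => pullback.lift_fst _ _ _
    rw [← hl, Category.assoc, Category.assoc, ← mb b, ← mb c, hbc]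
  have hφ : D'.φ (i := PUnit.unit) (j := PUnit.unit) _ _ hx (b.push v₀) =
      D'.φ (i := PUnit.unit) (j := PUnit.unit) _ _ hx (c.push v₀) := by
    apply Subtype.ext
    rw [hb, hc]; exact key
  have hpush : b.push v₀ = c.push v₀ := (D'.φ _ _ hx).injective hφ
  have hfin : pullback.fst ((D.obj ⟨⟩).hom ≫ a') a ≫ (b.hom ⟨⟩).left =
      pullback.fst ((D.obj ⟨⟩).hom ≫ a') a ≫ (c.hom ⟨⟩).left := congrArg Subtype.val hpush
  haveI : Epi (pullback.fst ((D.obj ⟨⟩).hom ≫ a') a) := Flat.epi_of_flat_of_surjective _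
  exact (cancel_epi _).mp hfin

end Groth.Agent.S9852
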