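import Groth.Statements.S9859
import Mathlib.AlgebraicGeometry.Sites.Fpqc
import Mathlib.AlgebraicGeometry.PullbackCarrier

set_option autoImplicit false
open CategoryTheory CategoryTheory.Limits AlgebraicGeometry Opposite
universe u
open Desc

namespace Groth.Agent.S9859

open MorphismProperty

section
variable (P : MorphismProperty Scheme.{u}) [MorphismProperty.IsLocalAtTarget P Scheme.fppfPrecoverage]

/-- Two base changes of `f` along the same morphism agree with respect to `P`. -/
theorem of_isPullback_of_isPullback {X Y Y' Z Z' : Scheme.{u}} {f : X ⟶ Y} {g : Y' ⟶ Y}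
    {a : Z ⟶ X} {b : Z ⟶ Y'} {a' : Z' ⟶ X} {b' : Z' ⟶ Y'} (h : IsPullback a b f g)
    (h' : IsPullback a' b' f g) (hb : P b) : P b' := by
  have : b' = (h'.isoIsPullback _ _ h).hom ≫ b := by simp
  rw [this]
  exact (P.cancel_left_of_respectsIso _ _).2 hb

set_option backward.isDefEq.respectTransparency.types false in
/-- `P` is stable under base change along flat morphisms locally of finite presentation. -/
theorem baseChange_of_flat_lfp {X Y Y' Z : Scheme.{u}} {f : X ⟶ Y} (hf : P f) (g : Y' ⟶ Y)
    (hg1 : Flat g) (hg2 : LocallyOfFinitePresentation g) {a : Z ⟶ X} {b : Z ⟶ Y'}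
    (sq : IsPullback a b f g) : P b := by
  have : MorphismProperty.IsMultiplicative (@LocallyOfFinitePresentation : MorphismProperty Scheme.{u}) :=
    { id_mem := fun _ => inferInstance }
  let 𝒰 : Precoverage.ZeroHypercover.{u} Scheme.fppfPrecoverage Y :=
    (Scheme.coverOfIsIso (P := @Flat ⊓ @LocallyOfFinitePresentation) (𝟙 Y)).add g ⟨hg1, hg2⟩
  exact IsLocalAtTarget.of_isPullback (P := P) 𝒰 none sq hf

/-- Comparison of the base change of `f ∣_ U` along `q` with a base change of `f`. -/
theorem pullback_restrict_iff {X Y V Z : Scheme.{u}} (f : X ⟶ Y) (U : Y.Opens) (q : V ⟶ U.toScheme)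
    (g : V ⟶ Y) (hq : q ≫ U.ι = g) {a : Z ⟶ X} {b : Z ⟶ V} (sq : IsPullback a b f g) :
    P (pullback.snd (f ∣_ U) q) ↔ P b := by
  have sq1 : IsPullback (pullback.fst (f ∣_ U) q ≫ (f ⁻¹ᵁ U).ι) (pullback.snd (f ∣_ U) q) f
      (q ≫ U.ι) :=
    ((IsPullback.of_hasPullback (f ∣_ U) q).flip.paste_vert (isPullback_morphismRestrict f U)).flip
  rw [hq] at sq1
  exact ⟨of_isPullback_of_isPullback P sq1 sq, of_isPullback_of_isPullback P sq sq1⟩

/-- The restriction of a base change is a base change. -/
theorem isPullback_restrict_snd {X Y Y' : Scheme.{u}} (f : X ⟶ Y) (g : Y' ⟶ Y) (V : Y'.Opens) :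
    IsPullback ((pullback.snd f g ⁻¹ᵁ V).ι ≫ pullback.fst f g) (pullback.snd f g ∣_ V) f
      (V.ι ≫ g) :=
  ((isPullback_morphismRestrict (pullback.snd f g) V).paste_vert
    (IsPullback.of_hasPullback f g).flip).flip

set_option backward.isDefEq.respectTransparency.types false in
/-- If a base change of `f` along a flat morphism `g` locally of finite presentation has `P` then
so has the restriction of `f` over the (open) image of `g`. -/
theorem restrict_range_of_flat_lfp {X Y Y' : Scheme.{u}} (f : X ⟶ Y) (g : Y' ⟶ Y)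
    (hg1 : Flat g) (hg2 : LocallyOfFinitePresentation g) (h : P (pullback.snd f g))
    (U : Y.Opens) (hU : (U : Set Y) = Set.range g) : P (f ∣_ U) := by
  have hsub : Set.range g ⊆ Set.range U.ι := by rw [Scheme.Opens.range_ι, hU]
  let g' : Y' ⟶ U.toScheme := IsOpenImmersion.lift U.ι g hsub
  have hg' : g' ≫ U.ι = g := IsOpenImmersion.lift_fac _ _ _
  have h1 : Flat g' := by
    have : Flat (g' ≫ U.ι) := by rw [hg']; exact hg1
    exact MorphismProperty.of_postcomp (W := @Flat) (W' := @IsOpenImmersion) g' U.ι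
      inferInstance this
  have h2 : LocallyOfFinitePresentation g' := by
    have : LocallyOfFinitePresentation (g' ≫ U.ι) := by rw [hg']; exact hg2
    exact MorphismProperty.of_postcomp (W := @LocallyOfFinitePresentation) (W' := @IsOpenImmersion)
      g' U.ι inferInstance this
  have h3 : Surjective g' := by
    refine ⟨fun z => ?_⟩
    have hz : U.ι z ∈ (U : Set Y) := z.2
    rw [hU] at hz
    obtain ⟨y', hy'⟩ := hz
    refine ⟨y', ?_⟩
    apply U.ι.isOpenEmbedding.injective
    rw [← Scheme.Hom.comp_apply, hg', hy']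
  refine IsLocalAtTarget.of_forall_pullbackSnd (P := P) (K := Scheme.fppfPrecoverage)
    (R := Presieve.singleton g') (Scheme.Hom.singleton_mem_fppfPrecoverage g') ?_
  intro V q _ hq
  cases hq
  exact (pullback_restrict_iff P f U g' g hg' (IsPullback.of_hasPullback f g)).2 h

end

/-- Case τ = fppf: let P be a property of morphisms of schemes which is fppf local on the base and f : X
⟶ Y a morphism. There is a largest open W of Y such that the restriction of f over W has P;
moreover, first, if g : Y' ⟶ Y is flat and locally of finite presentation and the base change of f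
to Y' has P, then the image of g lies in W; and second, for such g the largest open of Y' over which
the base change of f has P is exactly g⁻¹(W). -/
theorem result (P : MorphismProperty Scheme.{u})
    [MorphismProperty.IsLocalAtTarget P Scheme.fppfPrecoverage] {X Y : Scheme.{u}} (f : X ⟶ Y) :
    ∃ W : Y.Opens, P (f ∣_ W) ∧ (∀ W₀ : Y.Opens, P (f ∣_ W₀) → W₀ ≤ W) ∧
      (∀ (Y' : Scheme.{u}) (g : Y' ⟶ Y), Flat g → LocallyOfFinitePresentation g →
        P (pullback.snd f g) → Set.range g.base ⊆ (W : Set Y)) ∧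
      (∀ (Y' : Scheme.{u}) (g : Y' ⟶ Y), Flat g → LocallyOfFinitePresentation g →
        ∀ W' : Y'.Opens, P (pullback.snd f g ∣_ W') → (∀ W₀ : Y'.Opens, P (pullback.snd f g ∣_ W₀) → W₀ ≤ W') →
          W' = g ⁻¹ᵁ W) := by
  let Sset : Set Y.Opens := {W₀ | P (f ∣_ W₀)}
  let W : Y.Opens := sSup Sset
  have hmax : ∀ W₀ : Y.Opens, P (f ∣_ W₀) → W₀ ≤ W := fun W₀ h => le_sSup h
  have hPW : P (f ∣_ W) := by
    have hR : Presieve.ofArrows (fun W₀ : Sset => (W₀.1 : Y.Opens).toScheme)
        (fun W₀ => Y.homOfLE (hmax W₀.1 W₀.2)) ∈ Scheme.fppfPrecoverage W.toScheme := by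
      unfold Scheme.fppfPrecoverage
      rw [Scheme.ofArrows_mem_precoverage_iff]
      refine ⟨fun w => ?_, fun W₀ => ⟨inferInstance, inferInstance⟩⟩
      have hw : W.ι w ∈ W := w.2
      obtain ⟨W₀, hW₀, hwW₀⟩ := TopologicalSpace.Opens.mem_sSup.1 hw
      refine ⟨⟨W₀, hW₀⟩, ⟨W.ι w, hwW₀⟩, ?_⟩
      apply W.ι.isOpenEmbedding.injective
      rw [← Scheme.Hom.comp_apply, Scheme.homOfLE_ι]
      rfl
    let 𝒰 : Precoverage.ZeroHypercover.{u} Scheme.fppfPrecoverage W.toScheme :=
      ⟨⟨Sset, fun W₀ => (W₀.1 : Y.Opens).toScheme, fun W₀ => Y.homOfLE (hmax W₀.1 W₀.2)⟩, hR⟩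
    refine IsLocalAtTarget.of_zeroHypercover (P := P) (K := Scheme.fppfPrecoverage) 𝒰 ?_
    intro W₀
    exact (pullback_restrict_iff P f W (Y.homOfLE (hmax W₀.1 W₀.2)) (W₀.1 : Y.Opens).ι
      (Scheme.homOfLE_ι _ _) (isPullback_morphismRestrict f W₀.1).flip).2 W₀.2
  have h3 : ∀ (Y' : Scheme.{u}) (g : Y' ⟶ Y), Flat g → LocallyOfFinitePresentation g →
      P (pullback.snd f g) → Set.range g.base ⊆ (W : Set Y) := by
    intro Y' g hg1 hg2 h
    let U : Y.Opens := ⟨Set.range g, g.isOpenMap.isOpen_range⟩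
    have := hmax U (restrict_range_of_flat_lfp P f g hg1 hg2 h U rfl)
    exact this
  refine ⟨W, hPW, hmax, h3, ?_⟩
  intro Y' g hg1 hg2 W' hW' hW'max
  apply le_antisymm
  · have hfl : Flat (W'.ι ≫ g) := inferInstance
    have hlfp : LocallyOfFinitePresentation (W'.ι ≫ g) := inferInstance
    have h := of_isPullback_of_isPullback P (isPullback_restrict_snd f g W')
      (IsPullback.of_hasPullback f (W'.ι ≫ g)) hW'
    have hsub := h3 _ _ hfl hlfp h
    intro y' hy'
    show g y' ∈ W
    apply hsub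
    exact ⟨⟨y', hy'⟩, by rw [Scheme.Hom.comp_apply]; rfl⟩
  · apply hW'max
    have hfl : Flat (g ∣_ W) := by
      have : Flat ((g ∣_ W) ≫ W.ι) := by rw [morphismRestrict_ι]; infer_instance
      exact MorphismProperty.of_postcomp (W := @Flat) (W' := @IsOpenImmersion) _ W.ι
        inferInstance this
    have hlfp : LocallyOfFinitePresentation (g ∣_ W) := by
      have : LocallyOfFinitePresentation ((g ∣_ W) ≫ W.ι) := by
        rw [morphismRestrict_ι]; infer_instance
      exact MorphismProperty.of_postcomp (W := @LocallyOfFinitePresentation)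
        (W' := @IsOpenImmersion) _ W.ι inferInstance this
    have h := baseChange_of_flat_lfp P hPW (g ∣_ W) hfl hlfp
      (IsPullback.of_hasPullback (f ∣_ W) (g ∣_ W))
    exact (pullback_restrict_iff P f W (g ∣_ W) ((g ⁻¹ᵁ W).ι ≫ g) (morphismRestrict_ι g W)
      (isPullback_restrict_snd f g (g ⁻¹ᵁ W))).1 h

end Groth.Agent.S9859
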