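import Groth.Statements.S9860
import Mathlib

set_option autoImplicit false
open CategoryTheory CategoryTheory.Limits AlgebraicGeometry Opposite
universe u
open Desc

namespace Groth.Agent.S9860

/-- Consider morphisms of schemes f i : X i ⟶ X indexed by i. Suppose that, whenever Y is an affine
scheme and g : Y ⟶ X is a morphism, the sieve on Y obtained by pulling back along g (generated by
the base changes X i ×_X Y ⟶ Y) is effective epimorphic. Then the pulled-back sieve along every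
morphism Y ⟶ X of schemes is effective epimorphic; in other words, within schemes the family forms a
universal effective epimorphism. -/
theorem result {ι : Type u} {X : Scheme.{u}} {Xi : ι → Scheme.{u}} (f : ∀ i, Xi i ⟶ X)
    (h : ∀ (Y : Scheme.{u}) (g : Y ⟶ X), IsAffine Y → ((Sieve.ofArrows Xi f).pullback g).EffectiveEpimorphic)
    {Y : Scheme.{u}} (g : Y ⟶ X) : ((Sieve.ofArrows Xi f).pullback g).EffectiveEpimorphic := by
  classical
  obtain ⟨T, hT⟩ : ∃ T : Sieve Y, T = (Sieve.ofArrows Xi f).pullback g := ⟨_, rfl⟩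
  rw [← hT, Sieve.EffectiveEpimorphic, ← Sieve.forallYonedaIsSheaf_iff_colimit]
  intro W
  have hA : ∀ (V : Scheme.{u}) (k : V ⟶ Y), IsAffine V →
      Presieve.IsSheafFor (yoneda.obj W) (T.pullback k : Presieve V) := by
    intro V k hV
    have h1 := h V (k ≫ g) hV
    rw [Sieve.EffectiveEpimorphic, ← Sieve.forallYonedaIsSheaf_iff_colimit] at h1
    have e : T.pullback k = (Sieve.ofArrows Xi f).pullback (k ≫ g) := by
      rw [hT, Sieve.pullback_comp]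
    rw [e]; exact h1 W
  intro x hx
  have x_congr : ∀ {Y' : Scheme.{u}} (f₁ f₂ : Y' ⟶ Y) (e : f₁ = f₂) (h₁ : T f₁) (h₂ : T f₂),
      x f₁ h₁ = x f₂ h₂ := by
    intro Y' f₁ f₂ e h₁ h₂; subst e; rfl
  have x_comp : ∀ {Y' Y'' : Scheme.{u}} (k : Y'' ⟶ Y') (f' : Y' ⟶ Y) (hf : T f')
      (hkf : T (k ≫ f')), x (k ≫ f') hkf = k ≫ x f' hf := by
    intro Y' Y'' k f' hf hkf
    have := hx (𝟙 Y'') k hkf hf (by simp)
    simpa using this
  have am_ex : ∀ (V : Scheme.{u}) (k : V ⟶ Y) (hV : IsAffine V), ∃ t : V ⟶ W,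
      ∀ {Y' : Scheme.{u}} (h' : Y' ⟶ V) (hh : T (h' ≫ k)), h' ≫ t = x (h' ≫ k) hh := by
    intro V k hV
    refine ⟨(hA V k hV).amalgamate (x.pullback k) (hx.pullback k), ?_⟩
    intro Y' h' hh
    exact (hA V k hV).isAmalgamation (hx.pullback k) h' hh
  choose am ham using am_ex
  have sep : ∀ (V : Scheme.{u}) (k : V ⟶ Y) (hV : IsAffine V) (t₁ t₂ : V ⟶ W),
      (∀ {Y' : Scheme.{u}} (h' : Y' ⟶ V) (hh : T (h' ≫ k)), h' ≫ t₁ = h' ≫ t₂) → t₁ = t₂ := by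
    intro V k hV t₁ t₂ H
    exact (hA V k hV).isSeparatedFor.ext (fun Y' h' hh => H h' hh)
  have amL : ∀ (V V' : Scheme.{u}) (k : V ⟶ Y) (u : V' ⟶ V) (k' : V' ⟶ Y) (hk : k' = u ≫ k)
      (hV : IsAffine V) (hV' : IsAffine V'), u ≫ am V k hV = am V' k' hV' := by
    intro V V' k u k' hk hV hV'
    subst hk
    refine sep V' (u ≫ k) hV' _ _ ?_
    intro Y' h' hh
    rw [ham V' (u ≫ k) hV' h' hh, ← Category.assoc,
      ham V k hV (h' ≫ u) (by simpa using hh)]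
    exact x_congr _ _ (Category.assoc _ _ _) _ _
  obtain ⟨𝒰, h𝒰⟩ : ∃ 𝒰 : Y.OpenCover, ∀ a, IsAffine (𝒰.X a) := ⟨Y.affineCover, inferInstance⟩
  obtain ⟨ya, hya⟩ : ∃ ya : ∀ a, 𝒰.X a ⟶ W, ∀ a, ya a = am (𝒰.X a) (𝒰.f a) (h𝒰 a) := ⟨_, fun _ => rfl⟩
  have hglue : ∀ a b, pullback.fst (𝒰.f a) (𝒰.f b) ≫ ya a = pullback.snd _ _ ≫ ya b := by
    intro a b
    refine Scheme.hom_ext_of_forall _ _ fun p => ?_
    obtain ⟨_, ⟨U, hU, rfl⟩, hpU, -⟩ :=
      (pullback (𝒰.f a) (𝒰.f b)).isBasis_affineOpens.exists_subset_of_mem_open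
        (Set.mem_univ p) isOpen_univ
    refine ⟨U, hpU, ?_⟩
    have hUa : IsAffine U := hU
    rw [← Category.assoc, ← Category.assoc, hya a, hya b]
    rw [amL (𝒰.X a) U (𝒰.f a) ((Scheme.Opens.ι U) ≫ pullback.fst _ _) ((Scheme.Opens.ι U) ≫ pullback.fst _ _ ≫ 𝒰.f a)
        (by simp) (h𝒰 a) hUa,
      amL (𝒰.X b) U (𝒰.f b) ((Scheme.Opens.ι U) ≫ pullback.snd _ _) ((Scheme.Opens.ι U) ≫ pullback.fst _ _ ≫ 𝒰.f a)
        (by simp [pullback.condition]) (h𝒰 b) hUa]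
  refine ⟨𝒰.glueMorphisms ya hglue, ?_, ?_⟩
  · intro Y' f' hf
    show f' ≫ _ = x f' hf
    refine Scheme.hom_ext_of_forall _ _ fun p => ?_
    obtain ⟨a, q, hq⟩ := 𝒰.exists_eq (f' p)
    have hopen : IsOpen (f' ⁻¹' Set.range (𝒰.f a)) :=
      (𝒰.f a).isOpenEmbedding.isOpen_range.preimage f'.continuous
    obtain ⟨_, ⟨U, hU, rfl⟩, hpU, hUsub⟩ := Y'.isBasis_affineOpens.exists_subset_of_mem_open
      (show p ∈ f' ⁻¹' Set.range (𝒰.f a) from ⟨q, hq⟩) hopen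
    refine ⟨U, hpU, ?_⟩
    have hUa : IsAffine U := hU
    have hr : Set.range ((Scheme.Opens.ι U) ≫ f') ⊆ Set.range (𝒰.f a) := by
      rintro _ ⟨z, rfl⟩
      rw [Scheme.Hom.comp_apply]
      have hz : (Scheme.Opens.ι U) z ∈ Set.range (Scheme.Opens.ι U) := ⟨z, rfl⟩
      rw [Scheme.Opens.range_ι] at hz
      exact hUsub hz
    obtain ⟨hh, hfac⟩ : ∃ hh : (U : Scheme.{u}) ⟶ 𝒰.X a, hh ≫ 𝒰.f a = (Scheme.Opens.ι U) ≫ f' :=
      ⟨IsOpenImmersion.lift (𝒰.f a) ((Scheme.Opens.ι U) ≫ f') hr, IsOpenImmersion.lift_fac _ _ _⟩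
    have hT1 : T ((Scheme.Opens.ι U) ≫ f') := T.downward_closed hf (Scheme.Opens.ι U)
    rw [← Category.assoc, ← hfac, Category.assoc, 𝒰.ι_glueMorphisms ya hglue a, hya a,
      ham (𝒰.X a) (𝒰.f a) (h𝒰 a) hh (by rw [hfac]; exact hT1), ← x_comp (Scheme.Opens.ι U) f' hf hT1]
    exact x_congr _ _ hfac _ _
  · intro y' hy'
    refine 𝒰.hom_ext _ _ fun a => ?_
    rw [𝒰.ι_glueMorphisms ya hglue a, hya a]
    refine (sep (𝒰.X a) (𝒰.f a) (h𝒰 a) _ _ ?_).symm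
    intro Y' h' hh
    rw [ham (𝒰.X a) (𝒰.f a) (h𝒰 a) h' hh, ← Category.assoc]
    exact (hy' (h' ≫ 𝒰.f a) hh).symm

end Groth.Agent.S9860
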