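import Groth.Statements.S9864
import Mathlib
import Groth.Agent.Lib.DescIso_helper9

set_option autoImplicit false
open CategoryTheory CategoryTheory.Limits AlgebraicGeometry Opposite
universe u
open Desc

namespace Groth.Agent.S9864

/-- Let a : X ⟶ S be a morphism of schemes and f : X ⟶ X a morphism over S (f ≫ a = a). Then the
pullback functor along f on the category of descent data for schemes relative to X ⟶ S is isomorphic
to the identity functor. (Existence of an isomorphism of functors only; descent data relative to a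
single morphism are written as descent data relative to the corresponding one-member family.) -/
theorem result {X S : Scheme.{u}} (a : X ⟶ S) (f : X ⟶ X) (h : f ≫ a = a) :
    Nonempty (Desc.pullDDFam (f := fun _ : PUnit.{u + 1} => a) (f' := fun _ : PUnit.{u + 1} => a) (α := fun j => j)
        (p := 𝟙 S) (p' := fun _ => f) (fun _ => (h).trans (Category.comp_id a).symm) ≅
      𝟭 (Desc.SchDDFam (fun _ : PUnit.{u + 1} => a))) := by
  have hw : ∀ _ : PUnit.{u + 1}, f ≫ a = a ≫ 𝟙 S := fun _ => (h).trans (Category.comp_id a).symm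
  have hr : ∀ ⦃T : Scheme.{u}⦄ ⦃i : PUnit.{u + 1}⦄ (x : T ⟶ X), (x ≫ f) ≫ a = x ≫ a := by
    intro T i x; rw [Category.assoc, h]
  have key : ∀ D : Desc.SchDDFam (fun _ : PUnit.{u + 1} => a),
      ∃ e : (Desc.pullDDFam (f := fun _ : PUnit.{u + 1} => a) (f' := fun _ : PUnit.{u + 1} => a)
        (α := fun j => j) (p := 𝟙 S) (p' := fun _ => f) hw).obj D ≅ D,
      ∀ ⦃T : Scheme.{u}⦄ ⦃i : PUnit.{u + 1}⦄ (x : T ⟶ X)
        (v : Desc.Lifts (Over.mk (pullback.snd (D.obj i).hom f)) x),
        v.1 ≫ (e.hom.hom i).left =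
          (D.φ (x ≫ f) x (hr (i := i) x) (Desc.liftsPullbackEquiv (D.obj i) f x v)).1 := by
    intro D
    exact Groth.Agent.Lib.DescIso.exists_iso
      (E := (Desc.pullDDFam (f := fun _ : PUnit.{u + 1} => a) (f' := fun _ : PUnit.{u + 1} => a)
        (α := fun j => j) (p := 𝟙 S) (p' := fun _ => f) hw).obj D) (D := D)
      (fun T i x => x ≫ f) hr (fun T T' σ i x => Category.assoc _ _ _)
      (fun T i x => Desc.liftsPullbackEquiv (D.obj i) f x)
      (fun T T' σ i x v v' hv => by
        show v'.1 ≫ pullback.fst _ _ = σ ≫ v.1 ≫ pullback.fst _ _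
        rw [hv, Category.assoc])
      (fun T i j x₀ x₁ h v => rfl)
  choose e he using key
  refine ⟨NatIso.ofComponents e ?_⟩
  intro D D' b
  apply Desc.SchDDFam.hom_ext
  funext i
  apply Over.OverMorphism.ext
  have h1 := he D' (pullback.snd (D.obj i).hom f)
    ⟨(Desc.SchDDFam.Hom.hom ((Desc.pullDDFam (f := fun _ : PUnit.{u + 1} => a)
      (f' := fun _ : PUnit.{u + 1} => a)
      (α := fun j => j) (p := 𝟙 S) (p' := fun _ => f) hw).map b) i).left,
      (pullback.lift_snd _ _ _).trans (Category.comp_id _)⟩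
  have h2 := he D (pullback.snd (D.obj i).hom f) ⟨𝟙 _, Category.id_comp _⟩
  rw [Category.id_comp] at h2
  refine h1.trans (Eq.trans ?_ (congrArg (· ≫ (b.hom i).left) h2.symm))
  refine b.comm _ _ _ _ _ ?_
  show _ ≫ pullback.fst _ _ = (𝟙 _ ≫ pullback.fst _ _) ≫ (b.hom i).left
  rw [Category.id_comp]
  exact pullback.lift_fst _ _ _

end Groth.Agent.S9864
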