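import Groth.Statements.S9865
import Mathlib
import Groth.Agent.Lib.DescIso_helper9
import Groth.Agent.Lib.DescFF_helper9

set_option autoImplicit false
open CategoryTheory CategoryTheory.Limits AlgebraicGeometry Opposite
universe u
open Desc

namespace Groth.Agent.S9865

/-- Let f : X' ⟶ X be a morphism of schemes over S, with structure morphisms a' : X' ⟶ S and a : X ⟶ S,
and assume there exists a morphism g : X ⟶ X' over S (for instance a section of f). Then the
pullback functor along f, from descent data for schemes relative to X ⟶ S to descent data relative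
to X' ⟶ S, is an equivalence of categories. (Descent data relative to a single morphism are written
as descent data relative to the corresponding one-member family.) -/
theorem result {X X' S : Scheme.{u}} (a : X ⟶ S) (a' : X' ⟶ S) (f : X' ⟶ X)
    (h : f ≫ a = a') (hg : ∃ g : X ⟶ X', g ≫ a' = a) :
    (Desc.pullDDFam (f := fun _ : PUnit.{u + 1} => a) (f' := fun _ : PUnit.{u + 1} => a') (α := fun j => j)
        (p := 𝟙 S) (p' := fun _ => f) (fun _ => (h).trans (Category.comp_id a').symm)).IsEquivalence := by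
  obtain ⟨g, hg⟩ := hg
  have hw : ∀ _ : PUnit.{u + 1}, f ≫ a = a' ≫ 𝟙 S := fun _ => (h).trans (Category.comp_id a').symm
  have hw' : ∀ _ : PUnit.{u + 1}, g ≫ a' = a ≫ 𝟙 S := fun _ => (hg).trans (Category.comp_id a).symm
  have H : ∀ _ : PUnit.{u + 1}, Sieve.pullback a
      (Sieve.ofArrows (fun _ : PUnit.{u + 1} => X') (fun _ => a')) ∈ Scheme.fpqcTopology X := by
    intro _
    have : Sieve.pullback a (Sieve.ofArrows (fun _ : PUnit.{u + 1} => X') (fun _ => a')) = ⊤ := by
      rw [← Sieve.id_mem_iff_eq_top]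
      show (Sieve.ofArrows (fun _ : PUnit.{u + 1} => X') (fun _ => a')).arrows (𝟙 X ≫ a)
      rw [Sieve.mem_ofArrows_iff]
      exact ⟨PUnit.unit, g, by rw [Category.id_comp, hg]⟩
    rw [this]
    exact GrothendieckTopology.top_mem _ _
  have hr : ∀ ⦃T : Scheme.{u}⦄ ⦃i : PUnit.{u + 1}⦄ (x : T ⟶ X'), ((x ≫ f) ≫ g) ≫ a' = x ≫ a' := by
    intro T i x; rw [Category.assoc, hg, Category.assoc, h]
  refine { faithful := ?_, full := ?_, essSurj := ⟨fun D' => ?_⟩ }
  · exact Groth.Agent.Lib.DescFF.faithful (fU := fun _ : PUnit.{u + 1} => a')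
      (fV := fun _ : PUnit.{u + 1} => a) (α := fun j => j) (g := fun _ => f) _
      Scheme.fpqcTopology H
  · exact Groth.Agent.Lib.DescFF.full (fU := fun _ : PUnit.{u + 1} => a')
      (fV := fun _ : PUnit.{u + 1} => a) (α := fun j => j) (g := fun _ => f) _
      Scheme.fpqcTopology H
  · refine ⟨(Desc.pullDDFam (f := fun _ : PUnit.{u + 1} => a') (f' := fun _ : PUnit.{u + 1} => a)
      (α := fun j => j) (p := 𝟙 S) (p' := fun _ => g) hw').obj D', ?_⟩
    obtain ⟨e, -⟩ := Groth.Agent.Lib.DescIso.exists_iso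
      (E := (Desc.pullDDFam (f := fun _ : PUnit.{u + 1} => a) (f' := fun _ : PUnit.{u + 1} => a')
        (α := fun j => j) (p := 𝟙 S) (p' := fun _ => f) hw).obj
        ((Desc.pullDDFam (f := fun _ : PUnit.{u + 1} => a') (f' := fun _ : PUnit.{u + 1} => a)
          (α := fun j => j) (p := 𝟙 S) (p' := fun _ => g) hw').obj D')) (D := D')
      (fun T i x => (x ≫ f) ≫ g) hr
      (fun T T' σ i x => by simp only [Category.assoc])
      (fun T i x => (Desc.liftsPullbackEquiv (Over.mk (pullback.snd (D'.obj i).hom g)) f x).trans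
        (Desc.liftsPullbackEquiv (D'.obj i) g (x ≫ f)))
      (fun T T' σ i x v v' hv => by
        show (v'.1 ≫ pullback.fst _ _) ≫ pullback.fst _ _ =
          σ ≫ (v.1 ≫ pullback.fst _ _) ≫ pullback.fst _ _
        rw [hv]; simp only [Category.assoc])
      (fun T i j x₀ x₁ h v => rfl)
    exact ⟨e⟩

end Groth.Agent.S9865
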