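import Groth.Statements.S9871
import Groth.Agent.Lib.AlgSpRepBySp_helper7

set_option autoImplicit false
universe u
open CategoryTheory CategoryTheory.Limits AlgebraicGeometry
open AlgSp
open Groth.Agent.Lib.AlgSpRepBySp_helper7

namespace Groth.Agent.S9871

set_option backward.isDefEq.respectTransparency false in
theorem result (S : Scheme.{u}) {R U R' U' : Over S} (s t : R ⟶ U)
    (g : U' ⟶ U) (s' t' : R' ⟶ U') (r : R' ⟶ R)
    (hsq : IsPullback (prod.lift t' s') r (prod.map g g) (prod.lift t s))
    (h : AlgSp.IsEtaleEqvRel s t) [Etale g.left] :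
    AlgSp.IsEtaleEqvRel s' t' := by
  have hwt : r ≫ t = t' ≫ g := by
    have := congrArg (· ≫ prod.fst) hsq.w
    simpa using this.symm
  have hws : r ≫ s = s' ≫ g := by
    have := congrArg (· ≫ prod.snd) hsq.w
    simpa using this.symm
  have hlift : ∀ {T : Over S} (a b : T ⟶ U') (r0 : T ⟶ R), r0 ≫ t = a ≫ g → r0 ≫ s = b ≫ g →
      ∃ ρ : T ⟶ R', ρ ≫ t' = a ∧ ρ ≫ s' = b ∧ ρ ≫ r = r0 := by
    intro T a b r0 h1 h2
    have hw : prod.lift a b ≫ prod.map g g = r0 ≫ prod.lift t s := by
      apply prod.hom_ext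
      · simp [h1]
      · simp [h2]
    refine ⟨hsq.lift (prod.lift a b) r0 hw, ?_, ?_, hsq.lift_snd _ _ _⟩
    · have := congrArg (· ≫ prod.fst) (hsq.lift_fst (prod.lift a b) r0 hw)
      simpa using this
    · have := congrArg (· ≫ prod.snd) (hsq.lift_fst (prod.lift a b) r0 hw)
      simpa using this
  have hext : ∀ {T : Over S} (ρ ρ' : T ⟶ R'), ρ ≫ t' = ρ' ≫ t' → ρ ≫ s' = ρ' ≫ s' →
      ρ ≫ r = ρ' ≫ r → ρ = ρ' := by
    intro T ρ ρ' h1 h2 h3
    apply hsq.hom_ext
    · apply prod.hom_ext
      · simpa using h1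
      · simpa using h2
    · exact h3
  have sqA := IsPullback.of_hasPullback s g
  obtain ⟨m, hm1, hm2⟩ : ∃ m : R' ⟶ pullback s g, m ≫ pullback.fst s g = r ∧
      m ≫ pullback.snd s g = s' :=
    ⟨pullback.lift r s' hws, pullback.lift_fst _ _ _, pullback.lift_snd _ _ _⟩
  have sqM : IsPullback m t' (pullback.fst s g ≫ t) g := by
    refine isPullback_of_existsUnique ?_ ?_
    · rw [← Category.assoc, hm1, hwt]
    · intro W α β hαβ
      obtain ⟨ρ, h1, h2, h3⟩ := hlift β (α ≫ pullback.snd s g) (α ≫ pullback.fst s g)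
        (by rw [Category.assoc]; exact hαβ)
        (by rw [Category.assoc, Category.assoc, pullback.condition])
      refine ⟨ρ, ⟨?_, h1⟩, ?_⟩
      · apply pullback.hom_ext
        · rw [Category.assoc, hm1, h3]
        · rw [Category.assoc, hm2, h2]
      · rintro ρ' ⟨e1, e2⟩
        apply hext
        · rw [e2, h1]
        · rw [h2, ← hm2, ← Category.assoc, e1]
        · rw [h3, ← hm1, ← Category.assoc, e1]
  have sqA' : IsPullback (pullback.fst s g).left (pullback.snd s g).left s.left g.left :=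
    sqA.map (Over.forget S)
  have sqM' : IsPullback m.left t'.left ((pullback.fst s g).left ≫ t.left) g.left :=
    sqM.map (Over.forget S)
  have e_s : Etale s.left := h.etale_left
  have e_t : Etale t.left := h.etale_right
  have e1 : Etale (pullback.snd s g).left :=
    MorphismProperty.of_isPullback (P := @Etale) sqA' e_s
  have e2 : Etale (pullback.fst s g).left :=
    MorphismProperty.of_isPullback (P := @Etale) sqA'.flip inferInstance
  have e3 : Etale m.left :=
    MorphismProperty.of_isPullback (P := @Etale) sqM'.flip inferInstance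
  have e4 : Etale t'.left :=
    MorphismProperty.of_isPullback (P := @Etale) sqM' inferInstance
  have e5 : Etale s'.left := by
    rw [← hm2]
    exact (inferInstance : Etale (m.left ≫ (pullback.snd s g).left))
  refine ⟨⟨?_, ?_⟩, e5, e4⟩
  · intro T ρ ρ' h1 h2
    apply hext ρ ρ' h1 h2
    apply h.injective
    · rw [Category.assoc, Category.assoc, hwt, ← Category.assoc, ← Category.assoc, h1]
    · rw [Category.assoc, Category.assoc, hws, ← Category.assoc, ← Category.assoc, h2]
  · intro T
    have key : ∀ a b : T ⟶ U', (∃ ρ : T ⟶ R', ρ ≫ t' = a ∧ ρ ≫ s' = b) ↔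
        (∃ r0 : T ⟶ R, r0 ≫ t = a ≫ g ∧ r0 ≫ s = b ≫ g) := by
      intro a b
      constructor
      · rintro ⟨ρ, rfl, rfl⟩
        exact ⟨ρ ≫ r, by rw [Category.assoc, hwt, Category.assoc],
          by rw [Category.assoc, hws, Category.assoc]⟩
      · rintro ⟨r0, h1, h2⟩
        obtain ⟨ρ, e1, e2, -⟩ := hlift a b r0 h1 h2
        exact ⟨ρ, e1, e2⟩
    have E := h.equivalence T
    exact ⟨fun a => (key a a).2 (E.refl _),
      fun {a b} hab => (key b a).2 (E.symm ((key a b).1 hab)),
      fun {a b c} hab hbc => (key a c).2 (E.trans ((key a b).1 hab) ((key b c).1 hbc))⟩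

end Groth.Agent.S9871
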