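import Groth.Statements.S9876
import Groth.Agent.Lib.AlgSpRepBySp_helper7

set_option autoImplicit false
universe u
open CategoryTheory CategoryTheory.Limits AlgebraicGeometry Topology TopologicalSpace
open AlgSp
open Groth.Agent.Lib.AlgSpRepBySp_helper7

namespace Groth.Agent.S9876

theorem result (S : Scheme.{u}) (X : AlgSp.Space S)
    (G : AlgSp.PSp S) (a : G ⟶ X.obj.obj) (ha : (AlgSp.pyon S).relativelyRepresentable a) :
    AlgSp.IsAlgSpaceP G := by
  refine isAlgSpaceP_of_repBySp a ?_ ((isAlgSpaceP_obj_iff X.obj).2 X.property)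
  intro U ξ F' fst snd sq
  obtain ⟨V, v, w, sqV⟩ := ha ξ
  exact (isAlgSpaceP_pyon V).of_iso (sqV.isoIsPullback _ _ sq)

end Groth.Agent.S9876
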