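import Groth.Statements.S9878
import Groth.Agent.Lib.SpCoprod2_helper7

set_option autoImplicit false
universe u
open CategoryTheory CategoryTheory.Limits AlgebraicGeometry
open AlgSp

namespace Groth.Agent.S9878

/-- Let `F`, `G` be fppf sheaves of sets over `S` and let `F ⨿ G` be their coproduct in sheaves (any
colimit binary cofan). Then the coprojection `F ⟶ F ⨿ G` is representable by schemes, by morphisms
that are both open immersions and closed immersions. -/
theorem result (S : Scheme.{u}) (F G : AlgSp.Sp S) (c : BinaryCofan F G)
    (hc : IsColimit c) :
    AlgSp.RepWith (@IsOpenImmersion ⊓ @IsClosedImmersion) c.inl := by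
  let X : WalkingPair → AlgSp.Sp S := fun j => WalkingPair.casesOn j F G
  let c' : Cofan X := c
  have hc' : IsColimit c' := hc
  exact Groth.Agent.Lib.SpCoprod2H7.repWith_inj c' hc' WalkingPair.left

end Groth.Agent.S9878
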