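import Groth.Statements.S9879
import Groth.Agent.Lib.SpCoprod3_helper7

set_option autoImplicit false
universe u
open CategoryTheory CategoryTheory.Limits AlgebraicGeometry
open AlgSp

namespace Groth.Agent.S9879

/-- Let `U` be a scheme over `S` and `F_i` a family of fppf sheaves of sets over `S` whose coproduct in
sheaves is isomorphic to `h_U`. Then each `F_i` is representable by a scheme `V_i` over `S` such
that `V_i ⟶ U` (the morphism inducing `h_{V_i} ≅ F_i ⟶ ∐ F_i ≅ h_U`) is an open and closed
immersion, and `U` is the coproduct of the `V_i` in schemes. -/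
theorem result (S : Scheme.{u}) (U : Over S) {ι : Type u}
    (F : ι → AlgSp.Sp S) (c : Cofan F) (hc : IsColimit c) (e : c.pt ≅ (AlgSp.yon S).obj U) :
    ∃ (V : ι → Over S) (g : ∀ i, V i ⟶ U) (ei : ∀ i, (AlgSp.yon S).obj (V i) ≅ F i),
      (∀ i, IsOpenImmersion (g i).left ∧ IsClosedImmersion (g i).left) ∧
      (∀ i, (ei i).hom ≫ c.inj i ≫ e.hom = (AlgSp.yon S).map (g i)) ∧
      Nonempty (IsColimit (Cofan.mk U.left (fun i => (g i).left))) := by
  choose fst hfst using fun i => Groth.Agent.Lib.SpCoprod2H7.exists_isPullback_part c hc e.inv i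
  haveI : ∀ i, IsIso (fst i) := fun i => (hfst i).isIso_fst_of_isIso
  refine ⟨fun i => Groth.Agent.Lib.SpCoprod2H7.partOver c hc e.inv i,
    fun i => Groth.Agent.Lib.SpCoprod2H7.partι c hc e.inv i, fun i => asIso (fst i), ?_, ?_, ?_⟩
  · intro i
    exact ⟨inferInstance, Groth.Agent.Lib.SpCoprod2H7.isClosedImmersion_partι c hc e.inv i⟩
  · intro i
    have h := (hfst i).w
    dsimp only [asIso_hom]
    rw [← Category.assoc, h, Category.assoc, Iso.inv_hom_id, Category.comp_id]
  · exact Groth.Agent.Lib.SpCoprod3H7.nonempty_isColimit_part c hc e.inv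

end Groth.Agent.S9879
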