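import Groth.Statements.S9885
import Groth.Agent.Lib.AlgSpIso_helper7

set_option autoImplicit false
universe u
open CategoryTheory CategoryTheory.Limits AlgebraicGeometry
open AlgSp
open Groth.Agent.Lib.AlgSpEpi_helper7

namespace Groth.Agent.S9885

/-- Let `a : F ⟶ G` be a map of fppf sheaves of sets over `S` which is representable by schemes, flat,
locally of finite presentation and surjective (in the representable sense). Then `a` is surjective
as a map of sheaves (locally surjective). -/
theorem result (S : Scheme.{u}) (F G : AlgSp.Sp S) (a : F ⟶ G)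
    (h₁ : AlgSp.RepWith @Flat a) (h₂ : AlgSp.RepWith @LocallyOfFinitePresentation a)
    (h₃ : AlgSp.RepWith @Surjective a) : Sheaf.IsLocallySurjective a := by
  have : Epi a := by
    refine ⟨fun {Z} α β hab => ?_⟩
    refine GrothendieckTopology.hom_ext_uliftYoneda.{u+1} _ (fun T s => ?_)
    have sq := h₃.rep.isPullback s
    have : Epi ((yon S).map (h₃.rep.snd s)) :=
      epi_yon_map _ (h₃.property_snd s) (h₁.property _ _ _ sq) (h₂.property _ _ _ sq)
    rw [← cancel_epi ((yon S).map (h₃.rep.snd s)), ← Category.assoc, ← Category.assoc, ← sq.w,
      Category.assoc, Category.assoc, hab]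
  exact (Sheaf.isLocallySurjective_iff_epi a).2 this

end Groth.Agent.S9885
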