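import Groth.Statements.S9886
import Groth.Agent.Lib.AlgSpRepBySp_helper7
import Groth.Agent.Lib.AlgSpUnram_helper7

set_option autoImplicit false
universe u
open CategoryTheory CategoryTheory.Limits AlgebraicGeometry
open AlgSp
open Groth.Agent.Lib.AlgSpRepBySp_helper7 Groth.Agent.Lib.AlgSpUnram_helper7

namespace Groth.Agent.S9886

set_option backward.isDefEq.respectTransparency false in
theorem result (S : Scheme.{u}) (F : AlgSp.Sp S) (P : MorphismProperty Scheme.{u})
    [P.IsStableUnderBaseChange]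
    (h₁ : ∀ ⦃U V : Over S⦄ (a : (AlgSp.yon S).obj U ⟶ F) (b : (AlgSp.yon S).obj V ⟶ F),
      ∃ (W : Over S) (fst : W ⟶ U) (snd : W ⟶ V), IsPullback ((AlgSp.yon S).map fst) ((AlgSp.yon S).map snd) a b)
    (h₂ : ∀ ⦃U V W : Over S⦄ (a : (AlgSp.yon S).obj U ⟶ F) (b : (AlgSp.yon S).obj V ⟶ F) (fst : W ⟶ U)
      (snd : W ⟶ V), IsPullback ((AlgSp.yon S).map fst) ((AlgSp.yon S).map snd) a b → P (prod.lift fst snd).left) :
    AlgSp.RepWith P (Limits.diag F) := by
  have hrep : Representable (Limits.diag F) :=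
    Functor.relativelyRepresentable.diag_of_map_from_obj (fun U c => by
      intro V b
      obtain ⟨W, fst, snd, sq⟩ := h₁ c b
      exact ⟨W, snd, (yon S).map fst, sq⟩)
  refine ⟨hrep, ?_⟩
  intro T V g fst snd sq
  obtain ⟨a, ha⟩ : ∃ a : (yon S).obj T ⟶ F, a = g ≫ prod.fst := ⟨_, rfl⟩
  obtain ⟨b, hb⟩ : ∃ b : (yon S).obj T ⟶ F, b = g ≫ prod.snd := ⟨_, rfl⟩
  obtain ⟨W, p₁, p₂, sqW⟩ := h₁ a b
  have hP := h₂ a b p₁ p₂ sqW
  have sqR := isPullback_diag_of_isPullback sqW
  have hg : g = Limits.diag _ ≫ prod.map a b := by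
    apply prod.hom_ext
    · simp [ha]
    · simp [hb]
  rw [hg] at sq
  obtain ⟨l, hl1, hl2⟩ : ∃ l : (yon S).obj V ⟶ (yon S).obj W,
      l ≫ ((yon S).map p₁ ≫ a) = fst ∧
      l ≫ prod.lift ((yon S).map p₁) ((yon S).map p₂) = (yon S).map snd ≫ Limits.diag _ :=
    ⟨sqR.lift fst ((yon S).map snd ≫ Limits.diag _) (by rw [Category.assoc]; exact sq.w),
      sqR.lift_fst _ _ _, sqR.lift_snd _ _ _⟩
  have sqL : IsPullback l ((yon S).map snd) (prod.lift ((yon S).map p₁) ((yon S).map p₂))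
      (Limits.diag _) := by
    refine IsPullback.of_right ?_ hl2 sqR
    rw [hl1]
    exact sq
  obtain ⟨lam, rfl⟩ := (yon S).map_surjective l
  have e1 : prod.lift ((yon S).map p₁) ((yon S).map p₂) =
      (yon S).map (prod.lift p₁ p₂) ≫ prodComparison (yon S) T T := by
    apply prod.hom_ext
    · rw [prod.lift_fst, Category.assoc, prodComparison_fst, ← Functor.map_comp, prod.lift_fst]
    · rw [prod.lift_snd, Category.assoc, prodComparison_snd, ← Functor.map_comp, prod.lift_snd]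
  rw [e1, diag_yon_obj] at sqL
  have sqL' : IsPullback ((yon S).map lam) ((yon S).map snd) ((yon S).map (prod.lift p₁ p₂))
      ((yon S).map (Limits.diag T)) :=
    IsPullback.of_iso sqL (Iso.refl _) (Iso.refl _) (Iso.refl _)
      (asIso (prodComparison (yon S) T T)).symm (by simp) (by simp) (by simp) (by simp)
  exact P.of_isPullback (isPullback_left_of_isPullback_yon sqL') hP

end Groth.Agent.S9886
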