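import Groth.Statements.S9891
import Groth.Agent.Lib.AlgSpRepBySp_helper7

set_option autoImplicit false
universe u
open CategoryTheory CategoryTheory.Limits AlgebraicGeometry
open AlgSp
open Groth.Agent.Lib.AlgSpRepBySp_helper7

namespace Groth.Agent.S9891

/-- Let `a : F ⟶ G` be a map of presheaves of sets on schemes over `S` which is representable by
schemes. Then the relative diagonal `F ⟶ F ×_G F` is representable by schemes. -/
theorem result (S : Scheme.{u}) (F G : AlgSp.PSp S) (a : F ⟶ G)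
    (ha : (AlgSp.pyon S).relativelyRepresentable a) :
    (AlgSp.pyon S).relativelyRepresentable (pullback.diagonal a) := by
  intro U ξ
  obtain ⟨x₁, hx₁⟩ : ∃ x₁ : (pyon S).obj U ⟶ F, x₁ = ξ ≫ pullback.fst a a := ⟨_, rfl⟩
  obtain ⟨x₂, hx₂⟩ : ∃ x₂ : (pyon S).obj U ⟶ F, x₂ = ξ ≫ pullback.snd a a := ⟨_, rfl⟩
  have hy : x₁ ≫ a = x₂ ≫ a := by
    rw [hx₁, hx₂, Category.assoc, Category.assoc, pullback.condition]
  obtain ⟨V, v, w, sqV⟩ := ha (x₁ ≫ a)
  obtain ⟨s₁, hs11, hs12⟩ : ∃ s₁ : (pyon S).obj U ⟶ (pyon S).obj V,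
      s₁ ≫ w = x₁ ∧ s₁ ≫ (pyon S).map v = 𝟙 _ :=
    ⟨sqV.lift x₁ (𝟙 _) (by rw [Category.id_comp]), sqV.lift_fst _ _ _, sqV.lift_snd _ _ _⟩
  obtain ⟨s₂, hs21, hs22⟩ : ∃ s₂ : (pyon S).obj U ⟶ (pyon S).obj V,
      s₂ ≫ w = x₂ ∧ s₂ ≫ (pyon S).map v = 𝟙 _ :=
    ⟨sqV.lift x₂ (𝟙 _) (by rw [Category.id_comp, hy]), sqV.lift_fst _ _ _, sqV.lift_snd _ _ _⟩
  obtain ⟨σ₁, hσ₁⟩ : ∃ σ₁ : U ⟶ V, (pyon S).map σ₁ = s₁ := ⟨_, Functor.map_preimage _ s₁⟩
  obtain ⟨σ₂, hσ₂⟩ : ∃ σ₂ : U ⟶ V, (pyon S).map σ₂ = s₂ := ⟨_, Functor.map_preimage _ s₂⟩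
  have sqQ' : IsPullback ((pyon S).map (pullback.fst σ₁ σ₂)) ((pyon S).map (pullback.snd σ₁ σ₂))
      s₁ s₂ := by
    have := (IsPullback.of_hasPullback σ₁ σ₂).map (pyon S)
    rwa [hσ₁, hσ₂] at this
  obtain ⟨kh, hkh⟩ : ∃ kh : (pyon S).obj (pullback σ₁ σ₂) ⟶ (pyon S).obj U,
      kh = (pyon S).map (pullback.fst σ₁ σ₂) := ⟨_, rfl⟩
  rw [← hkh] at sqQ'
  have hk : kh = (pyon S).map (pullback.snd σ₁ σ₂) := by
    have := congrArg (· ≫ (pyon S).map v) sqQ'.w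
    simpa only [Category.assoc, hs12, hs22, Category.comp_id] using this
  have hkx : kh ≫ x₁ = kh ≫ x₂ := by
    have := congrArg (· ≫ w) sqQ'.w
    simp only [Category.assoc, hs11, hs21] at this
    rw [this, hk]
  refine ⟨pullback σ₁ σ₂, pullback.fst σ₁ σ₂, kh ≫ x₁, ?_⟩
  rw [← hkh]
  refine isPullback_of_existsUnique ?_ ?_
  · apply pullback.hom_ext
    · rw [Category.assoc, pullback.diagonal_fst, Category.comp_id, Category.assoc, hx₁]
    · rw [Category.assoc, pullback.diagonal_snd, Category.comp_id, Category.assoc, ← hx₂]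
      exact hkx
  · intro Z α β h
    have h1 : α = β ≫ x₁ := by
      have := congrArg (· ≫ pullback.fst a a) h
      simp only [Category.assoc, pullback.diagonal_fst, Category.comp_id] at this
      rw [this, hx₁]
    have h2 : α = β ≫ x₂ := by
      have := congrArg (· ≫ pullback.snd a a) h
      simp only [Category.assoc, pullback.diagonal_snd, Category.comp_id] at this
      rw [this, hx₂]
    have hβ : β ≫ s₁ = β ≫ s₂ := by
      apply sqV.hom_ext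
      · rw [Category.assoc, Category.assoc, hs11, hs21, ← h1, ← h2]
      · rw [Category.assoc, Category.assoc, hs12, hs22]
    refine ⟨sqQ'.lift β β hβ, ⟨?_, sqQ'.lift_fst _ _ _⟩, ?_⟩
    · rw [← Category.assoc, sqQ'.lift_fst, ← h1]
    · rintro m ⟨-, hm2⟩
      have hm3 : m ≫ (pyon S).map (pullback.snd σ₁ σ₂) = β := by rw [← hk]; exact hm2
      apply sqQ'.hom_ext
      · rw [hm2, sqQ'.lift_fst]
      · rw [hm3, sqQ'.lift_snd]

end Groth.Agent.S9891
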