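import Groth.Statements.S9900
import Groth.Agent.Lib.AlgSpDiag_helper7

set_option autoImplicit false
universe u
open CategoryTheory CategoryTheory.Limits AlgebraicGeometry
open AlgSp

namespace Groth.Agent.S9900

/-- For a morphism of algebraic spaces the relative diagonal is representable by schemes, locally of
finite type, a monomorphism, separated and locally quasi-finite (each in the representable sense). -/
theorem result {S : Scheme.{u}} {X Y : AlgSp.Space S} (f : X ⟶ Y) :
    AlgSp.Representable (pullback.diagonal f.hom) ∧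
    AlgSp.RepWith @LocallyOfFiniteType (pullback.diagonal f.hom) ∧
    AlgSp.RepWith (MorphismProperty.monomorphisms Scheme.{u}) (pullback.diagonal f.hom) ∧
    AlgSp.RepWith @IsSeparated (pullback.diagonal f.hom) ∧
    AlgSp.RepWith (@LocallyQuasiFinite ⊓ @LocallyOfFiniteType) (pullback.diagonal f.hom) := by
  obtain ⟨h1, h2, h3, h4⟩ := Groth.Agent.Lib.AlgSpDiag_helper7.diag_properties X.property
  have k1 := Groth.Agent.Lib.AlgSpBasic_helper7.repWith_diagonal_of_repWith_diag _ f.hom h1
  have k2 := Groth.Agent.Lib.AlgSpBasic_helper7.repWith_diagonal_of_repWith_diag _ f.hom h2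
  have k3 := Groth.Agent.Lib.AlgSpBasic_helper7.repWith_diagonal_of_repWith_diag _ f.hom h3
  have k4 := Groth.Agent.Lib.AlgSpBasic_helper7.repWith_diagonal_of_repWith_diag _ f.hom h4
  exact ⟨k1.rep, k1, k2, k3, ⟨k1.rep, fun _ _ _ _ _ sq => ⟨k4.property _ _ _ sq, k1.property _ _ _ sq⟩⟩⟩

end Groth.Agent.S9900
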