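import Groth.Statements.S9901
import Groth.Agent.Lib.AlgSpDiag_helper7

set_option autoImplicit false
universe u
open CategoryTheory CategoryTheory.Limits AlgebraicGeometry
open AlgSp

namespace Groth.Agent.S9901

/-- For f : X -> Z, g : Y -> Z and h : Z -> T, the canonical map X x_Z Y -> X x_T Y is representable by
schemes and, in the representable sense, a separated monomorphism that is locally of finite type and
locally quasi-finite; it is a closed immersion when h is separated and quasi-compact when h is
quasi-separated. (The published lemma also shows that the map is an immersion when h is locally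
separated; this row omits that clause.) -/
theorem result {S : Scheme.{u}} {X Y Z T : AlgSp.Space S} (f : X ⟶ Z) (g : Y ⟶ Z)
    (h : Z ⟶ T) :
    AlgSp.Representable (pullback.mapDesc f.hom g.hom h.hom) ∧
    AlgSp.RepWith @LocallyOfFiniteType (pullback.mapDesc f.hom g.hom h.hom) ∧
    AlgSp.RepWith (@LocallyQuasiFinite ⊓ @LocallyOfFiniteType) (pullback.mapDesc f.hom g.hom h.hom) ∧
    AlgSp.RepWith @IsSeparated (pullback.mapDesc f.hom g.hom h.hom) ∧
    AlgSp.RepWith (MorphismProperty.monomorphisms Scheme.{u}) (pullback.mapDesc f.hom g.hom h.hom) ∧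
    (AlgSp.IsSeparatedMor h.hom → AlgSp.RepWith @IsClosedImmersion (pullback.mapDesc f.hom g.hom h.hom)) ∧
    (AlgSp.IsQuasiSeparatedMor h.hom → AlgSp.RepWith @QuasiCompact (pullback.mapDesc f.hom g.hom h.hom)) := by
  have sq := pullback_map_diagonal_isPullback f.hom g.hom h.hom
  obtain ⟨h1, h2, h3, h4⟩ := Groth.Agent.Lib.AlgSpDiag_helper7.diag_properties Z.property
  have k1 := Groth.Agent.Lib.AlgSpBasic_helper7.repWith_diagonal_of_repWith_diag _ h.hom h1
  have k2 := Groth.Agent.Lib.AlgSpBasic_helper7.repWith_diagonal_of_repWith_diag _ h.hom h2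
  have k3 := Groth.Agent.Lib.AlgSpBasic_helper7.repWith_diagonal_of_repWith_diag _ h.hom h3
  have k4 := Groth.Agent.Lib.AlgSpBasic_helper7.repWith_diagonal_of_repWith_diag _ h.hom h4
  have m1 := Groth.Agent.Lib.AlgSpQC_helper7.repWith_snd_of_isPullback _ sq k1
  have m2 := Groth.Agent.Lib.AlgSpQC_helper7.repWith_snd_of_isPullback _ sq k2
  have m3 := Groth.Agent.Lib.AlgSpQC_helper7.repWith_snd_of_isPullback _ sq k3
  have m4 := Groth.Agent.Lib.AlgSpQC_helper7.repWith_snd_of_isPullback _ sq k4
  refine ⟨m1.rep, m1, ⟨m1.rep, fun _ _ _ _ _ sq' => ⟨m4.property _ _ _ sq', m1.property _ _ _ sq'⟩⟩,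
    m3, m2, ?_, ?_⟩
  · intro hs
    exact Groth.Agent.Lib.AlgSpQC_helper7.repWith_snd_of_isPullback _ sq hs
  · intro hs
    exact Groth.Agent.Lib.AlgSpQC_helper7.repWith_snd_of_isPullback _ sq hs

end Groth.Agent.S9901
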