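import Groth.Statements.S9903
import Groth.Agent.Lib.AlgSpSep_helper7

set_option autoImplicit false
universe u
open CategoryTheory CategoryTheory.Limits AlgebraicGeometry
open AlgSp

namespace Groth.Agent.S9903

/-- (1) ⇔ (3): a morphism of algebraic spaces is separated (resp. quasi-separated) if and only if its
base change to every affine scheme over the target is. -/
theorem result {S : Scheme.{u}} {X Y : AlgSp.Space S} (f : X ⟶ Y) :
    (AlgSp.IsSeparatedMor f.hom ↔
      ∀ (Z : Over S), IsAffine Z.left → ∀ (g : (AlgSp.yon S).obj Z ⟶ Y.obj) (P : AlgSp.Sp S)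
        (fst : P ⟶ X.obj) (snd : P ⟶ (AlgSp.yon S).obj Z), IsPullback fst snd f.hom g →
        AlgSp.IsSeparatedMor snd) ∧
    (AlgSp.IsQuasiSeparatedMor f.hom ↔
      ∀ (Z : Over S), IsAffine Z.left → ∀ (g : (AlgSp.yon S).obj Z ⟶ Y.obj) (P : AlgSp.Sp S)
        (fst : P ⟶ X.obj) (snd : P ⟶ (AlgSp.yon S).obj Z), IsPullback fst snd f.hom g →
        AlgSp.IsQuasiSeparatedMor snd) := by
  have hd : AlgSp.Representable (pullback.diagonal f.hom) :=
    (Groth.Agent.Lib.AlgSpDiag_helper7.diagonal_properties X.property f.hom).1.rep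
  constructor
  · constructor
    · intro h Z _ g P fst snd sq
      exact Groth.Agent.Lib.AlgSpSep_helper7.isSeparatedMor_of_isPullback sq h
    · intro h
      apply Groth.Agent.Lib.AlgSpSep_helper7.repWith_diagonal_of_forall_affine _ _ hd
      intro T hT g
      exact ⟨_, _, _, IsPullback.of_hasPullback f.hom g, h T hT g _ _ _ (IsPullback.of_hasPullback f.hom g)⟩
  · constructor
    · intro h Z _ g P fst snd sq
      exact Groth.Agent.Lib.AlgSpSep_helper7.isQuasiSeparatedMor_of_isPullback sq h
    · intro h
      apply Groth.Agent.Lib.AlgSpSep_helper7.repWith_diagonal_of_forall_affine _ _ hd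
      intro T hT g
      exact ⟨_, _, _, IsPullback.of_hasPullback f.hom g, h T hT g _ _ _ (IsPullback.of_hasPullback f.hom g)⟩

end Groth.Agent.S9903
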