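import Groth.Statements.S9926
import Groth.Agent.Lib.AlgSpUCQC_lead

set_option autoImplicit false
universe u
open CategoryTheory CategoryTheory.Limits AlgebraicGeometry
open AlgSp

namespace Groth.Agent.S9926

/-- Let B be an algebraic space and f : X -> Y a morphism over B that is surjective and universally
closed. Quasi-separatedness of X over B forces quasi-separatedness of Y over B, and likewise for
separatedness. (The published lemma also has absolute versions; this row states the versions over
B.) -/
theorem result {S : Scheme.{u}} {X Y B : AlgSp.Space S} (f : X ⟶ Y) (p : X ⟶ B)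
    (q : Y ⟶ B) (comm : f ≫ q = p) (hs : AlgSp.IsSurjectiveMor f.hom) (hc : AlgSp.IsUnivClosedMor f.hom) :
    (AlgSp.IsQuasiSeparatedMor p.hom → AlgSp.IsQuasiSeparatedMor q.hom) ∧
    (AlgSp.IsSeparatedMor p.hom → AlgSp.IsSeparatedMor q.hom) := by
  have hcomm : f.hom ≫ q.hom = p.hom := by rw [← comm]; rfl
  exact ⟨Groth.Agent.Lib.AlgSpUCQC.isQuasiSeparatedMor_of_surjective_univClosed X.property Y.property
      B.property f.hom p.hom q.hom hcomm hs hc,
    Groth.Agent.Lib.AlgSpUCQC.isSeparatedMor_of_surjective_univClosed X.property Y.property
      B.property f.hom p.hom q.hom hcomm hs hc⟩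

end Groth.Agent.S9926
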