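import Groth.Statements.S9933
import Groth.Agent.Lib.AlgSpDiag_helper7

set_option autoImplicit false
universe u
open CategoryTheory CategoryTheory.Limits AlgebraicGeometry
open AlgSp

namespace Groth.Agent.S9933

/-- Permanence for Z -> Y -> X: the five representable finiteness/separation properties of Z -> X pass
to Z -> Y, and a closed immersion Z -> X with Y -> X separated gives a closed immersion Z -> Y. -/
theorem result {S : Scheme.{u}} {Z Y X : AlgSp.Space S} (a : Z ⟶ Y) (b : Y ⟶ X) :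
    ((AlgSp.Representable (a ≫ b).hom ∧ AlgSp.RepWith @LocallyOfFiniteType (a ≫ b).hom ∧
        AlgSp.RepWith (@LocallyQuasiFinite ⊓ @LocallyOfFiniteType) (a ≫ b).hom ∧
        AlgSp.RepWith @IsSeparated (a ≫ b).hom ∧
        AlgSp.RepWith (MorphismProperty.monomorphisms Scheme.{u}) (a ≫ b).hom) →
      (AlgSp.Representable a.hom ∧ AlgSp.RepWith @LocallyOfFiniteType a.hom ∧
        AlgSp.RepWith (@LocallyQuasiFinite ⊓ @LocallyOfFiniteType) a.hom ∧
        AlgSp.RepWith @IsSeparated a.hom ∧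
        AlgSp.RepWith (MorphismProperty.monomorphisms Scheme.{u}) a.hom)) ∧
    (AlgSp.RepWith @IsClosedImmersion (a ≫ b).hom → AlgSp.IsSeparatedMor b.hom →
      AlgSp.RepWith @IsClosedImmersion a.hom) := by
  obtain ⟨d1, d2, d3, d4⟩ := Groth.Agent.Lib.AlgSpDiag_helper7.diagonal_properties Y.property b.hom
  have key : ∀ (Q : MorphismProperty Scheme.{u}) [Q.IsStableUnderBaseChange] [Q.IsMultiplicative],
      AlgSp.RepWith Q (pullback.diagonal b.hom) → AlgSp.RepWith Q (a ≫ b).hom →
        AlgSp.RepWith Q a.hom := by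
    intro Q _ _ hd hab
    exact Groth.Agent.Lib.AlgSpDiag_helper7.repWith_of_comp_of_diagonal Q a.hom b.hom hab hd
  refine ⟨?_, fun h hb => key _ hb h⟩
  rintro ⟨_, h1, h2, h3, h4⟩
  rw [Groth.Agent.Lib.AlgSpDiag_helper7.repWith_inf_iff] at h2
  have k1 := key _ d1 h1
  have k2 := key _ d4 h2.1
  have k3 := key _ d3 h3
  have k4 := key _ d2 h4
  exact ⟨k1.rep, k1, Groth.Agent.Lib.AlgSpDiag_helper7.repWith_inf k2 k1, k3, k4⟩

end Groth.Agent.S9933
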