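import Groth.Statements.S9934
import Groth.Agent.Lib.AlgSpOpenSub_helper7

set_option autoImplicit false
universe u
open CategoryTheory CategoryTheory.Limits AlgebraicGeometry
open AlgSp

namespace Groth.Agent.S9934

open Groth.Agent.Lib.AlgSpPoints_helper7 Groth.Agent.Lib.AlgSpTop_helper7 in
theorem ofPt_preimage_range {S : Scheme.{u}} {Z X : AlgSp.Sp S} (i : Z ⟶ X) {T V : Over S}
    (g : (AlgSp.yon S).obj T ⟶ X) (fst : (AlgSp.yon S).obj V ⟶ Z) (v : V ⟶ T)
    (sq : IsPullback fst ((AlgSp.yon S).map v) i g) :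
    AlgSp.Points.ofPt g ⁻¹' Set.range (AlgSp.Points.map i) = Set.range v.left := by
  ext t
  constructor
  · rintro ⟨z, hz⟩
    have hz' : AlgSp.Points.map i z = AlgSp.Points.map g (AlgSp.Points.ofScheme T t) := by
      rw [hz, AlgSp.Points.ofPt_eq_map_ofScheme]
    obtain ⟨w, -, hw2⟩ := exists_of_isPullback sq z (AlgSp.Points.ofScheme T t) hz'
    obtain ⟨x, rfl⟩ := ofScheme_surjective V w
    refine ⟨x, ?_⟩
    apply ofScheme_injective T
    rw [← hw2, ← AlgSp.Points.ofPt_eq_map_ofScheme, ofPt_yon_map]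
  · rintro ⟨x, rfl⟩
    refine ⟨AlgSp.Points.ofPt fst x, ?_⟩
    rw [AlgSp.Points.map_ofPt, sq.w, ofPt_comp]


/-- An immersion of algebraic spaces is a closed immersion exactly when its image on points is closed. -/
theorem result {S : Scheme.{u}} {Z X : AlgSp.Space S} (i : Z ⟶ X)
    (hi : AlgSp.RepWith @IsImmersion i.hom) :
    AlgSp.RepWith @IsClosedImmersion i.hom ↔ IsClosed (Set.range (AlgSp.Points.map i.hom)) := by
  constructor
  · intro hc
    obtain ⟨U, p, hpe, hps⟩ := X.property.atlas
    refine Groth.Agent.Lib.AlgSpTop_helper7.isClosed_of_forall_chart (fun _ : Unit => U)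
      (fun _ => p) (fun _ => hpe)
      (fun z => ⟨(), Groth.Agent.Lib.AlgSpPoints_helper7.ofPt_surjective p hps z⟩) _ (fun _ => ?_)
    rw [ofPt_preimage_range i.hom p _ _ (hc.rep.isPullback p)]
    haveI : IsClosedImmersion (hc.rep.snd p).left := hc.property_snd p
    exact (hc.rep.snd p).left.isClosedEmbedding.isClosed_range
  · intro h
    refine ⟨hi.rep, fun T V g fst snd sq => ?_⟩
    haveI : IsImmersion snd.left := hi.property g fst snd sq
    refine IsClosedImmersion.of_isPreimmersion snd.left ?_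
    rw [← ofPt_preimage_range i.hom g fst snd sq]
    exact h.preimage (AlgSp.Points.continuous_ofPt g)

end Groth.Agent.S9934
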