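import Groth.Statements.S9944
import Groth.Agent.Lib.AlgSpAffine_helper7

set_option autoImplicit false
universe u
open CategoryTheory CategoryTheory.Limits AlgebraicGeometry
open AlgSp

namespace Groth.Agent.S9944

/-- Let g : X -> Y be a morphism over a base algebraic space B with X affine over B. Then g is affine as
soon as the diagonal of Y over B is affine, and in particular as soon as Y is B-separated. (The
published lemma also has two versions with the absolute diagonal of Y; this row states the versions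
over B.) -/
theorem result {S : Scheme.{u}} {X Y B : AlgSp.Space S} (g : X ⟶ Y) (p : X ⟶ B)
    (q : Y ⟶ B) (comm : g ≫ q = p) (hp : AlgSp.IsAffineMor p.hom) :
    (AlgSp.IsAffineMor (pullback.diagonal q.hom) → AlgSp.IsAffineMor g.hom) ∧
    (AlgSp.IsSeparatedMor q.hom → AlgSp.IsAffineMor g.hom) := by
  open Groth.Agent.Lib.AlgSpAffine_helper7 in
  subst comm
  have hp' : AlgSp.IsAffineMor (g.hom ≫ q.hom) := hp
  constructor
  · intro hΔ Z hZ t
    obtain ⟨W, i, fstW, sqW, hW⟩ := hp' hZ (t ≫ q.hom)
    obtain ⟨W', j, a, sqΔ, hW'⟩ := hΔ hW (pullback.lift (fstW ≫ g.hom) ((AlgSp.yon S).map i ≫ t)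
      (by simpa using sqW.w))
    have := isPullback_of_diagonal g.hom q.hom t sqW sqΔ
    rw [← Functor.map_comp] at this
    exact ⟨W', j ≫ i, _, this, hW'⟩
  · intro hq Z hZ t
    obtain ⟨W, i, fst, sq, hW, -⟩ := exists_affine_pullback_of_comp g.hom q.hom hq ⊤
      (fun _ _ _ _ _ _ _ => trivial) t (by
        obtain ⟨W, i, fst, sq, hW⟩ := hp' hZ (t ≫ q.hom)
        exact ⟨W, i, fst, sq, hW, trivial⟩)
    exact ⟨W, i, fst, sq, hW⟩

end Groth.Agent.S9944
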