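import Groth.Statements.S9951
import Groth.Agent.Lib.AlgSpLocP3_helper7

set_option autoImplicit false
universe u
open CategoryTheory CategoryTheory.Limits AlgebraicGeometry
open AlgSp

namespace Groth.Agent.S9951

/-- The source of a morphism locally of finite type with locally Noetherian target is locally
Noetherian. -/
theorem result {S : Scheme.{u}} {X Y : AlgSp.Space S} (f : X ⟶ Y)
    (hf : AlgSp.LocP @LocallyOfFiniteType f.hom) (hY : AlgSp.IsLocNoethSp Y.obj) : AlgSp.IsLocNoethSp X.obj := by
  exact Groth.Agent.Lib.AlgSpLocP3_helper7.isLocNoethSp_of_locP X.property Y.property.diag f.hom hf hY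

end Groth.Agent.S9951
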