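import Groth.Statements.S9957
import Groth.Agent.Lib.AlgSpLocP3_helper7

set_option autoImplicit false
universe u
open CategoryTheory CategoryTheory.Limits AlgebraicGeometry
open AlgSp

namespace Groth.Agent.S9957

/-- The source of a morphism of finite presentation whose target is Noetherian is itself Noetherian,
Noetherian meaning quasi-compact, quasi-separated over S and locally Noetherian. (The published
statement uses quasi-separatedness in the absolute sense; this row uses quasi-separatedness over S
in hypothesis and conclusion.) -/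
theorem result {S : Scheme.{u}} {X Y : AlgSp.Space S} (f : X ⟶ Y)
    (hf : AlgSp.IsFinitePresentationMor f.hom)
    (hY : AlgSp.IsQuasiCompactSp Y.obj ∧ AlgSp.IsQuasiSeparatedSp Y.obj ∧ AlgSp.IsLocNoethSp Y.obj) :
    AlgSp.IsQuasiCompactSp X.obj ∧ AlgSp.IsQuasiSeparatedSp X.obj ∧ AlgSp.IsLocNoethSp X.obj := by
  open Groth.Agent.Lib.AlgSpLocP3_helper7 Groth.Agent.Lib.AlgSpQC2_helper7 in
  obtain ⟨h1, h2, h3⟩ := hf
  obtain ⟨hY1, hY2, hY3⟩ := hY
  refine ⟨?_, ?_, ?_⟩
  · exact h2 Y.property hY1 (𝟙 _) (𝟙 _) f.hom (IsPullback.of_horiz_isIso ⟨by simp⟩)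
  · have hY2' : AlgSp.IsQuasiSeparatedMor (terminal.from Y.obj) :=
      (repWith_diag_iff_diagonal_terminal_from _ _).1 hY2
    have := isQuasiSeparatedMor_comp f.hom (terminal.from Y.obj) h3 hY2'
    have e : f.hom ≫ terminal.from Y.obj = terminal.from X.obj := Subsingleton.elim _ _
    rw [e] at this
    exact (repWith_diag_iff_diagonal_terminal_from _ _).2 this
  · refine isLocNoethSp_of_locP X.property Y.property.diag f.hom ?_ hY3
    intro U V a b k ha hb comm
    have : LocallyOfFinitePresentation k.left := h1 a b k ha hb comm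
    exact (inferInstance : LocallyOfFiniteType k.left)

end Groth.Agent.S9957
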