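import Groth.Statements.S9960
import Groth.Agent.Lib.AlgSpLocP9_helper7
import Groth.Agent.Lib.AlgSpProper_helper7

set_option autoImplicit false
universe u
open CategoryTheory CategoryTheory.Limits AlgebraicGeometry
open AlgSp

namespace Groth.Agent.S9960

open Groth.Agent.Lib.AlgSpLocP9_helper7 Groth.Agent.Lib.AlgSpLocP4_helper7
  Groth.Agent.Lib.AlgSpPullback_helper7 Groth.Agent.Lib.AlgSpLocP_helper7
  Groth.Agent.Lib.AlgSpQC_helper7 Groth.Agent.Lib.AlgSpDiag_helper7

/-- The diagonal of a morphism locally of finite type is locally of finite presentation, and of finite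
presentation when the morphism is also quasi-separated. -/
theorem result {S : Scheme.{u}} {X Y : AlgSp.Space S} (f : X ⟶ Y)
    (hf : AlgSp.LocP @LocallyOfFiniteType f.hom) :
    AlgSp.LocP @LocallyOfFinitePresentation (pullback.diagonal f.hom) ∧
    (AlgSp.IsQuasiSeparatedMor f.hom → AlgSp.IsFinitePresentationMor (pullback.diagonal f.hom)) := by
  have hX := X.property
  have hY := Y.property
  have sq := IsPullback.of_hasPullback f.hom f.hom
  have hXX : IsAlgSpace (pullback f.hom f.hom) := isAlgSpace_of_isPullback hY.diag hX hX sq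
  have h1 : LocP @LocallyOfFiniteType (pullback.fst f.hom f.hom) :=
    locP_baseChange etLocal_locallyOfFiniteType hX hY hX f.hom f.hom _ _ sq.flip hf
  haveI : MorphismProperty.ContainsIdentities
      (@LocallyOfFinitePresentation : MorphismProperty Scheme.{u}) :=
    ⟨fun _ => inferInstance⟩
  have hid : LocP @LocallyOfFinitePresentation (𝟙 X.obj) :=
    locP_of_repWith @LocallyOfFinitePresentation
      (fun _ _ g hg => by haveI := hg; exact (inferInstance : LocallyOfFinitePresentation g)) _
      (Groth.Agent.Lib.AlgSpBasic_helper7.repWith_of_isIso @LocallyOfFinitePresentation (𝟙 _))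
  have h2 : LocP @LocallyOfFinitePresentation (pullback.diagonal f.hom) := by
    refine locP_lfp_of_comp hX (pullback.diagonal f.hom) (pullback.fst f.hom f.hom) ?_ h1
    rw [pullback.diagonal_fst]
    exact hid
  refine ⟨h2, fun hqs => ⟨h2, ?_, ?_⟩⟩
  · exact (repWith_quasiCompact_iff _ (diagonal_properties hX f.hom).1.rep).1 hqs
  · have : IsIso (pullback.diagonal (pullback.diagonal f.hom)) :=
      (pullback.isIso_diagonal_iff _).2 inferInstance
    exact Groth.Agent.Lib.AlgSpBasic_helper7.repWith_of_isIso @QuasiCompact _

end Groth.Agent.S9960
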