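import Groth.Statements.S9961
import Groth.Agent.Lib.AlgSpLocP_helper7

set_option autoImplicit false
universe u
open CategoryTheory CategoryTheory.Limits AlgebraicGeometry
open AlgSp

namespace Groth.Agent.S9961

/-- Open immersions between algebraic spaces are locally finitely presented (etale locally on source and
target). -/
theorem result {S : Scheme.{u}} {X Y : AlgSp.Space S} (f : X ⟶ Y)
    (hf : AlgSp.RepWith @IsOpenImmersion f.hom) : AlgSp.LocP @LocallyOfFinitePresentation f.hom := by
  refine Groth.Agent.Lib.AlgSpLocP_helper7.locP_of_repWith @LocallyOfFinitePresentation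
    (fun A B g (hg : Etale g) => (inferInstance : LocallyOfFinitePresentation g)) f.hom ?_
  refine Groth.Agent.Lib.AlgSpPoints_helper7.repWith_mono ?_ hf
  intro A B g (hg : IsOpenImmersion g)
  exact (inferInstance : LocallyOfFinitePresentation g)

end Groth.Agent.S9961
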