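import Groth.Statements.S9972
import Groth.Agent.Lib.AlgSpLocP4_helper7

set_option autoImplicit false
universe u
open CategoryTheory CategoryTheory.Limits AlgebraicGeometry
open AlgSp

namespace Groth.Agent.S9972

open Groth.Agent.Lib.AlgSpPullback_helper7 Groth.Agent.Lib.AlgSpQC_helper7
  Groth.Agent.Lib.AlgSpPoints_helper7 Groth.Agent.Lib.AlgSpDiag_helper7

/-- Two morphisms to an algebraic space separated over B that agree on an open subspace whose scheme
theoretic closure is everything are equal. -/
theorem result {S : Scheme.{u}} {U X Y B : AlgSp.Space S} (q : Y ⟶ B)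
    (hq : AlgSp.IsSeparatedMor q.hom) (f g : X ⟶ Y) (hfg : f ≫ q = g ≫ q) (j : U ⟶ X)
    (hj : AlgSp.RepWith @IsOpenImmersion j.hom) (hcl : AlgSp.IsSchImage j.hom (𝟙 X.obj)) (heq : j ≫ f = j ≫ g) :
    f = g := by
  have hfg' : f.hom ≫ q.hom = g.hom ≫ q.hom := congrArg (fun k => k.hom) hfg
  have heq' : j.hom ≫ f.hom = j.hom ≫ g.hom := congrArg (fun k => k.hom) heq
  have hYY : IsAlgSpace (pullback q.hom q.hom) :=
    isAlgSpace_of_isPullback B.property.diag Y.property Y.property (IsPullback.of_hasPullback _ _)
  obtain ⟨l, hl1, hl2⟩ : ∃ l : X.obj ⟶ pullback q.hom q.hom,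
      l ≫ pullback.fst q.hom q.hom = f.hom ∧ l ≫ pullback.snd q.hom q.hom = g.hom :=
    ⟨pullback.lift f.hom g.hom hfg', pullback.lift_fst _ _ _, pullback.lift_snd _ _ _⟩
  have sqE := IsPullback.of_hasPullback l (pullback.diagonal q.hom)
  have hE : IsAlgSpace (pullback l (pullback.diagonal q.hom)) :=
    isAlgSpace_of_isPullback hYY.diag X.property Y.property sqE
  have he₁ : RepWith @IsClosedImmersion (pullback.fst l (pullback.diagonal q.hom)) :=
    repWith_fst_of_isPullback _ sqE hq
  have hef : pullback.fst l (pullback.diagonal q.hom) ≫ f.hom =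
      pullback.snd l (pullback.diagonal q.hom) := by
    have := congrArg (fun k => k ≫ pullback.fst q.hom q.hom) sqE.w
    simpa only [Category.assoc, hl1, pullback.diagonal_fst, Category.comp_id] using this
  have heg : pullback.fst l (pullback.diagonal q.hom) ≫ g.hom =
      pullback.snd l (pullback.diagonal q.hom) := by
    have := congrArg (fun k => k ≫ pullback.snd q.hom q.hom) sqE.w
    simpa only [Category.assoc, hl2, pullback.diagonal_snd, Category.comp_id] using this
  have hw : j.hom ≫ l = (j.hom ≫ f.hom) ≫ pullback.diagonal q.hom := by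
    apply pullback.hom_ext
    · rw [Category.assoc, hl1, Category.assoc, pullback.diagonal_fst, Category.comp_id]
    · rw [Category.assoc, hl2, Category.assoc, pullback.diagonal_snd, Category.comp_id, heq']
  obtain ⟨k, hk⟩ := hcl.2.2 (pullback.fst l (pullback.diagonal q.hom)) hE he₁
    ⟨pullback.lift j.hom (j.hom ≫ f.hom) hw, pullback.lift_fst _ _ _⟩
  apply ObjectProperty.hom_ext
  calc f.hom = (k ≫ pullback.fst l (pullback.diagonal q.hom)) ≫ f.hom := by
        rw [hk, Category.id_comp]
    _ = (k ≫ pullback.fst l (pullback.diagonal q.hom)) ≫ g.hom := by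
        rw [Category.assoc, hef, Category.assoc, heg]
    _ = g.hom := by rw [hk, Category.id_comp]

end Groth.Agent.S9972
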