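import Groth.Statements.S9976
import Groth.Agent.Lib.FTPoint3_helper8

set_option autoImplicit false
universe u
open CategoryTheory CategoryTheory.Limits AlgebraicGeometry
open AlgSp

namespace Groth.Agent.S9976

/-- Under a surjective morphism locally of finite type, every finite type point of the target is the
image of a finite type point of the source. (The published lemma states that the two sets of finite
type points correspond exactly; the inclusion of the image in the finite type points of the target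
holds for every morphism locally of finite type and is omitted here.) -/
theorem result {S : Scheme.{u}} {X Y : AlgSp.Space S} (f : X ⟶ Y)
    (hf : AlgSp.LocP @LocallyOfFiniteType f.hom) (hs : AlgSp.IsSurjectiveMor f.hom) (y : AlgSp.Points Y.obj)
    (hy : ∃ (k : Type u) (_ : Field k) (str : Spec (CommRingCat.of k) ⟶ S) (ξ : (AlgSp.yon S).obj (Over.mk str) ⟶ Y.obj),
        AlgSp.LocP @LocallyOfFiniteType ξ ∧ AlgSp.Points.ofPt ξ (IsLocalRing.closedPoint k) = y) :
    ∃ x : AlgSp.Points X.obj, AlgSp.Points.map f.hom x = y ∧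
      ∃ (k : Type u) (_ : Field k) (str : Spec (CommRingCat.of k) ⟶ S) (ξ : (AlgSp.yon S).obj (Over.mk str) ⟶ X.obj),
        AlgSp.LocP @LocallyOfFiniteType ξ ∧ AlgSp.Points.ofPt ξ (IsLocalRing.closedPoint k) = x := by
  have hy' : FTPointH8.IsFTPt' Y y := FTPointH8.isFTPt'_of_isFTPt hy
  obtain ⟨V, b, v, hbe, hvcl, hv⟩ := hy'
  obtain ⟨x0, hx0⟩ := hs y
  obtain ⟨U, a, u0, hae, hu0⟩ := ResTrdegH8.exists_chart X x0
  obtain ⟨P, p, h'', w0, hp, hpa, cm, hw1, hw2, hwx⟩ :=
    ResTrdegH8.exists_chart_over f.hom a hae u0 b hbe v (by rw [hv, hu0, hx0])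
  have hT : IsLocallyClosed (h''.left ⁻¹' ({v} : Set ↥V.left)) :=
    (hvcl.preimage h''.left.continuous).isLocallyClosed
  obtain ⟨w, hwT, O, hwO, hO⟩ :=
    FTPointH8.exists_ft_point_of_isLocallyClosed P.left _ hT ⟨w0, hw2⟩
  have hwv : h''.left w = v := hwT
  refine ⟨AlgSp.Points.ofPt ((AlgSp.yon S).map p ≫ a) w, ?_, ?_⟩
  · rw [AlgSp.Points.map_ofPt, cm, Groth.Agent.Lib.AlgSpPoints_helper7.ofPt_comp, hwv, hv]
  · exact FTPointH8.isFTPt_of_isFTPt' (FTPointH8.isFTPt'_of_open _ hpa w O hwO hO)

end Groth.Agent.S9976
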