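import Groth.Statements.S9977
import Groth.Agent.Lib.FTPoint3_helper8

set_option autoImplicit false
universe u
open CategoryTheory CategoryTheory.Limits AlgebraicGeometry
open AlgSp

namespace Groth.Agent.S9977

/-- Every nonempty locally closed subset of |X| contains a finite type point, and finite type points are
dense in every closed subset. -/
theorem result {S : Scheme.{u}} (X : AlgSp.Space S) :
    (∀ T : Set (AlgSp.Points X.obj), IsLocallyClosed T → T.Nonempty →
      ∃ x ∈ T, (∃ (k : Type u) (_ : Field k) (str : Spec (CommRingCat.of k) ⟶ S) (ξ : (AlgSp.yon S).obj (Over.mk str) ⟶ X.obj),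
        AlgSp.LocP @LocallyOfFiniteType ξ ∧ AlgSp.Points.ofPt ξ (IsLocalRing.closedPoint k) = x)) ∧
    (∀ T : Set (AlgSp.Points X.obj), IsClosed T →
      T ⊆ closure {x | x ∈ T ∧ (∃ (k : Type u) (_ : Field k) (str : Spec (CommRingCat.of k) ⟶ S) (ξ : (AlgSp.yon S).obj (Over.mk str) ⟶ X.obj),
        AlgSp.LocP @LocallyOfFiniteType ξ ∧ AlgSp.Points.ofPt ξ (IsLocalRing.closedPoint k) = x)}) := by
  constructor
  · intro T hT hne
    exact FTPointH8.exists_isFTPt_of_isLocallyClosed X T hT hne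
  · intro T hT x hx
    rw [mem_closure_iff]
    intro Ω hΩ hxΩ
    obtain ⟨y, ⟨hyΩ, hyT⟩, hy⟩ := FTPointH8.exists_isFTPt_of_isLocallyClosed X (Ω ∩ T)
      (hΩ.isLocallyClosed.inter hT.isLocallyClosed) ⟨x, hxΩ, hx⟩
    exact ⟨y, hyΩ, hyT, hy⟩

end Groth.Agent.S9977
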