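import Groth.Statements.S9980
import Groth.Agent.Lib.AlgSpImage_helper7
import Groth.Agent.Lib.FinTypePt_helper6
import Groth.Agent.Lib.EtaleField_helper4

set_option autoImplicit false
universe u
open CategoryTheory CategoryTheory.Limits AlgebraicGeometry
open AlgSp

namespace Groth.Agent.S9980

/-- Characterizations of finite type points via one-point algebraic spaces locally of finite type over X
and via monomorphisms from quotients of spectra of fields. -/
theorem result {S : Scheme.{u}} (X : AlgSp.Space S) (x : AlgSp.Points X.obj) :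
    ((∃ (k : Type u) (_ : Field k) (str : Spec (CommRingCat.of k) ⟶ S) (ξ : (AlgSp.yon S).obj (Over.mk str) ⟶ X.obj),
        AlgSp.LocP @LocallyOfFiniteType ξ ∧ AlgSp.Points.ofPt ξ (IsLocalRing.closedPoint k) = x) ↔
      ∃ (Z : AlgSp.Space S) (f : Z ⟶ X), Nonempty (Unique (AlgSp.Points Z.obj)) ∧
        AlgSp.LocP @LocallyOfFiniteType f.hom ∧ Set.range (AlgSp.Points.map f.hom) = {x}) ∧
    ((∃ (k : Type u) (_ : Field k) (str : Spec (CommRingCat.of k) ⟶ S) (ξ : (AlgSp.yon S).obj (Over.mk str) ⟶ X.obj),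
        AlgSp.LocP @LocallyOfFiniteType ξ ∧ AlgSp.Points.ofPt ξ (IsLocalRing.closedPoint k) = x) ↔
      ∃ (Z : AlgSp.Space S) (f : Z ⟶ X) (k : Type u) (_ : Field k) (str : Spec (CommRingCat.of k) ⟶ S)
        (z : (AlgSp.yon S).obj (Over.mk str) ⟶ Z.obj), AlgSp.RepWith @Etale z ∧ AlgSp.RepWith @Surjective z ∧
        AlgSp.LocP @LocallyOfFiniteType f.hom ∧ Mono f.hom ∧
        AlgSp.Points.ofPt (z ≫ f.hom) (IsLocalRing.closedPoint k) = x) := by
  open Groth.Agent.Lib.AlgSpImage_helper7 Groth.Agent.Lib.AlgSpPoints_helper7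
    Groth.Agent.Lib.AlgSpLocP_helper7 Groth.Agent.Lib.AlgSpLocP4_helper7
    Groth.Agent.Lib.AlgSpFieldFlat_helper7 Groth.Agent.Lib.AlgSpTop_helper7
    Groth.Agent.Lib.AlgSpPullback_helper7 Groth.Agent.Lib.FinTypePtH6 in
  have hXa : AlgSp.IsAlgSpace X.obj := X.property
  have hlft : EtLocal (@LocallyOfFiniteType : MorphismProperty Scheme.{u}) := etLocal_locallyOfFiniteType
  have hE : ∀ ⦃A B : Scheme.{u}⦄ (g : A ⟶ B), Etale g → LocallyOfFiniteType g :=
    fun A B g hg => inferInstance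
  haveI : MorphismProperty.IsMultiplicative
      (@LocallyOfFiniteType : MorphismProperty Scheme.{u}) :=
    { id_mem := fun _ => inferInstance }
  -- from a finite type point to the residual space
  have key : (∃ (k : Type u) (_ : Field k) (str : Spec (CommRingCat.of k) ⟶ S)
      (ξ : (AlgSp.yon S).obj (Over.mk str) ⟶ X.obj),
        AlgSp.LocP @LocallyOfFiniteType ξ ∧
          AlgSp.Points.ofPt ξ (IsLocalRing.closedPoint k) = x) →
      ∃ (Z : AlgSp.Space S) (f : Z ⟶ X) (k : Type u) (_ : Field k)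
        (str : Spec (CommRingCat.of k) ⟶ S)
        (z : (AlgSp.yon S).obj (Over.mk str) ⟶ Z.obj), AlgSp.RepWith @Etale z ∧
        AlgSp.RepWith @Surjective z ∧
        AlgSp.LocP @LocallyOfFiniteType f.hom ∧ Mono f.hom ∧
        AlgSp.Points.ofPt (z ≫ f.hom) (IsLocalRing.closedPoint k) = x := by
    rintro ⟨k, _, str, ξ, hξ, hx⟩
    obtain ⟨ι, T, r, haff, hre, hcov⟩ := exists_affine_charts hXa
    obtain ⟨i, u, hu⟩ := hcov x
    obtain ⟨U, a, hae, hUaff, hu'⟩ : ∃ (U : Over S) (a : (AlgSp.yon S).obj U ⟶ X.obj)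
        (_ : AlgSp.RepWith @Etale a) (_ : IsAffine U.left), ∃ u : ↥U.left,
          AlgSp.Points.ofPt a u = x := ⟨T i, r i, hre i, haff i, u, hu⟩
    clear hu u
    obtain ⟨u, hu⟩ := hu'
    haveI := hUaff
    have sqW := hae.rep.isPullback' ξ
    have hsnd : Etale (hae.rep.snd ξ).left := hae.property_snd ξ
    have hfst : LocallyOfFiniteType (hae.rep.fst' ξ).left :=
      hξ ((AlgSp.yon S).map (hae.rep.snd ξ)) a (hae.rep.fst' ξ)
        ((AlgSp.repWith_yon_map_iff _ _).2 hsnd) hae sqW.w.symm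
    obtain ⟨w, hw1, hw2⟩ := exists_ofPt_eq_of_isPullback sqW u (IsLocalRing.closedPoint k)
      (hu.trans hx.symm)
    haveI : IsOpenImmersion ((hae.rep.pullback ξ).left.fromSpecResidueField w) :=
      Groth.Agent.Lib.EtaleFieldH4.isOpenImmersion_fromSpecResidueField k (hae.rep.snd ξ).left w
    haveI := hfst
    obtain ⟨g, hg⟩ : ∃ g : Spec (CommRingCat.of ↥((hae.rep.pullback ξ).left.residueField w)) ⟶
        U.left, g = (hae.rep.pullback ξ).left.fromSpecResidueField w ≫ (hae.rep.fst' ξ).left :=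
      ⟨_, rfl⟩
    haveI : LocallyOfFiniteType g := by rw [hg]; infer_instance
    have hgu : g (IsLocalRing.closedPoint _) = u := by
      rw [hg, Scheme.Hom.comp_apply, Scheme.fromSpecResidueField_apply, hw1]
    have hj : LocallyOfFiniteType (U.left.fromSpecResidueField u) := by
      have := locallyOfFiniteType_fromSpecResidueField g
      rwa [hgu] at this
    obtain ⟨ι', R', π₂, pr, hι', sq, hpe, hps⟩ := exists_residual_chart a hae u
    obtain ⟨m, hm⟩ : ∃ m, m = (AlgSp.yon S).map ι' ≫ a := ⟨_, rfl⟩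
    rw [← hm] at sq
    obtain ⟨hZ, hqe, hqs⟩ := isAlgSpace_image hXa m π₂ pr sq hpe hps
    refine ⟨⟨Sheaf.image m, hZ⟩, ObjectProperty.homMk (Sheaf.imageι m),
      ↥(U.left.residueField u), inferInstance, U.left.fromSpecResidueField u ≫ U.hom,
      Sheaf.toImage m, hqe, hqs, ?_, inferInstanceAs (Mono (Sheaf.imageι m)), ?_⟩
    · exact locP_of_one_chart hlft (Sheaf.imageι m) (Sheaf.toImage m) a ι' hqe hqs hae
        (by rw [Sheaf.toImage_ι, hm]) (by rw [hι']; exact hj)
    · change AlgSp.Points.ofPt (Sheaf.toImage m ≫ Sheaf.imageι m) _ = x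
      rw [Sheaf.toImage_ι, hm, ofPt_comp, hι', Scheme.fromSpecResidueField_apply, hu]
  refine ⟨⟨?_, ?_⟩, ⟨key, ?_⟩⟩
  · rintro ⟨k, _, str, ξ, hξ, hx⟩
    have hsub := subsingleton_points_field (S := S) (K := k) str
    refine ⟨⟨(AlgSp.yon S).obj (Over.mk str), AlgSp.IsAlgSpace.yon_obj _⟩,
      ObjectProperty.homMk ξ, ⟨⟨⟨AlgSp.Points.ofScheme _ (IsLocalRing.closedPoint k)⟩,
        fun a => hsub.elim _ _⟩⟩, hξ, ?_⟩
    ext w
    simp only [Set.mem_range, Set.mem_singleton_iff]
    constructor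
    · rintro ⟨z, rfl⟩
      change AlgSp.Points.map ξ z = x
      rw [hsub.elim z (AlgSp.Points.ofScheme _ (IsLocalRing.closedPoint k)),
        ← AlgSp.Points.ofPt_eq_map_ofScheme, hx]
    · rintro rfl
      refine ⟨AlgSp.Points.ofScheme _ (IsLocalRing.closedPoint k), ?_⟩
      change AlgSp.Points.map ξ _ = _
      rw [← AlgSp.Points.ofPt_eq_map_ofScheme, hx]
  · rintro ⟨Z, f, ⟨hU⟩, hf, hrange⟩
    obtain ⟨V, b, hbe, hbs⟩ := Z.property.atlas
    obtain ⟨v₀, -⟩ := ofPt_surjective b hbs hU.default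
    obtain ⟨w₀, hw₀⟩ := V.left.affineCover.covers v₀
    obtain ⟨w, -, hw⟩ := IsClosed.exists_closed_singleton
      (isClosed_univ : IsClosed (Set.univ : Set ↥(V.left.affineCover.X (V.left.affineCover.idx v₀))))
      ⟨w₀, trivial⟩
    haveI : IsClosedImmersion
        ((V.left.affineCover.X (V.left.affineCover.idx v₀)).fromSpecResidueField w) :=
      isClosed_singleton_iff_isClosedImmersion.mp hw
    obtain ⟨g, hg⟩ : ∃ g : Spec (CommRingCat.of
        ↥((V.left.affineCover.X (V.left.affineCover.idx v₀)).residueField w)) ⟶ V.left,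
        g = (V.left.affineCover.X (V.left.affineCover.idx v₀)).fromSpecResidueField w ≫
          V.left.affineCover.f (V.left.affineCover.idx v₀) := ⟨_, rfl⟩
    have hglft : LocallyOfFiniteType g := by rw [hg]; infer_instance
    obtain ⟨g', hg'⟩ : ∃ g' : Over.mk (g ≫ V.hom) ⟶ V, g'.left = g := ⟨Over.homMk g rfl, rfl⟩
    have h1 : AlgSp.RepWith @LocallyOfFiniteType ((AlgSp.yon S).map g' ≫ b) :=
      repWith_comp _ ((AlgSp.repWith_yon_map_iff _ _).2 (by rw [hg']; exact hglft))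
        (repWith_mono (fun A B g hg => hE g hg) hbe)
    have h2 : AlgSp.LocP @LocallyOfFiniteType ((AlgSp.yon S).map g' ≫ b) :=
      locP_of_repWith @LocallyOfFiniteType hE _ h1
    refine ⟨_, inferInstance, g ≫ V.hom, ((AlgSp.yon S).map g' ≫ b) ≫ f.hom,
      locP_comp hlft (AlgSp.IsAlgSpace.yon_obj _) Z.property X.property _ _ h2 hf, ?_⟩
    have hmem : AlgSp.Points.ofPt (((AlgSp.yon S).map g' ≫ b) ≫ f.hom)
        (IsLocalRing.closedPoint _) ∈ Set.range (AlgSp.Points.map f.hom) :=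
      ⟨AlgSp.Points.map ((AlgSp.yon S).map g' ≫ b) (AlgSp.Points.ofScheme _ _), by
        rw [← AlgSp.Points.map_comp, ← AlgSp.Points.ofPt_eq_map_ofScheme]⟩
    rw [hrange] at hmem
    exact hmem
  · rintro ⟨Z, f, k, _, str, z, hze, hzs, hf, hm, hx⟩
    exact ⟨k, inferInstance, str, z ≫ f.hom,
      locP_comp hlft (AlgSp.IsAlgSpace.yon_obj _) Z.property X.property z f.hom
        (locP_of_repWith @LocallyOfFiniteType hE z (repWith_mono (fun A B g hg => hE g hg) hze))
        hf, hx⟩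

end Groth.Agent.S9980
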