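import Groth.Statements.S9993
import Groth.Agent.Lib.AlgSpOpenSub_helper7
import Groth.Agent.Lib.AlgSpLocP10_helper7

set_option autoImplicit false
universe u
open CategoryTheory CategoryTheory.Limits AlgebraicGeometry
open AlgSp

namespace Groth.Agent.S9993

/-- A morphism f : X ⟶ Y of algebraic spaces has P at the point x in the neighbourhood sense (some chart
diagram through x whose top arrow has P on an open neighbourhood of the chosen point) if and only if
some open subspace X' of X through x has its restriction X' ⟶ Y in the class P etale locally on the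
source and target. -/
theorem result {S : Scheme.{u}} (P : MorphismProperty Scheme.{u})
    (hP : P = @LocallyOfFiniteType ∨ P = @LocallyOfFinitePresentation ∨ P = @Flat ∨ P = @Smooth ∨ P = @Etale ∨
      (∀ ⦃A B : Scheme.{u}⦄ (g : A ⟶ B), P g ↔ (LocallyQuasiFinite g ∧ LocallyOfFiniteType g)) ∨
      (∀ ⦃A B : Scheme.{u}⦄ (g : A ⟶ B), P g ↔ (LocallyOfFiniteType g ∧ FormallyUnramified g)))
    {X Y : AlgSp.Space S} (f : X ⟶ Y) (x : AlgSp.Points X.obj) :
    AlgSp.HasAtMor (fun U _ h u => ∃ W : U.Opens, u ∈ W ∧ P (W.ι ≫ h)) f.hom x ↔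
      ∃ (X' : AlgSp.Space S) (j : X' ⟶ X), AlgSp.RepWith @IsOpenImmersion j.hom ∧
        x ∈ Set.range (AlgSp.Points.map j.hom) ∧ AlgSp.LocP P (j ≫ f).hom := by
  open Groth.Agent.Lib.AlgSpOpenSub_helper7 Groth.Agent.Lib.AlgSpPoints_helper7
    Groth.Agent.Lib.AlgSpLocP10_helper7 Groth.Agent.Lib.AlgSpLocP4_helper7
    Groth.Agent.Lib.AlgSpPullback_helper7 in
  obtain ⟨hEt, hbc, -, -, -⟩ := listed_cases P hP
  haveI := hbc
  constructor
  · rintro ⟨U, V, a, b, h, u, hae, hbe, comm, hux, W, huW, hPW⟩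
    let aW : (AlgSp.yon S).obj (Over.mk (W.ι ≫ U.hom)) ⟶ X.obj :=
      (AlgSp.yon S).map (Over.homMk W.ι rfl : Over.mk (W.ι ≫ U.hom) ⟶ U) ≫ a
    have haW : AlgSp.RepWith @Etale aW := repWith_etale_restrict a hae W
    obtain ⟨X', j, hj, hr⟩ := exists_openSubspace X _ (isOpenMap_ofPt_of_etale _ haW).isOpen_range
    obtain ⟨a', ha', hae', hs⟩ := exists_factor_chart aW haW j.hom hj hr.ge
    refine ⟨X', j, hj, ?_, ?_⟩
    · rw [hr]
      refine ⟨⟨u, huW⟩, ?_⟩
      rw [ofPt_comp, ← hux]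
      rfl
    · refine locP_of_one_chart hEt (j ≫ f).hom a' b
        ((Over.homMk W.ι rfl : Over.mk (W.ι ≫ U.hom) ⟶ U) ≫ h) hae' (hs hr.le) hbe ?_ hPW
      change a' ≫ j.hom ≫ f.hom = _
      rw [← Category.assoc, ha', Category.assoc, comm, Functor.map_comp, Category.assoc]
  · rintro ⟨X', j, hj, ⟨x', rfl⟩, hL⟩
    obtain ⟨U, V, a, b, h, u, hae, hbe, comm, hux, hQ⟩ :=
      (locP_iff_forall_hasAtMor_listed P hP X'.property Y.property (j ≫ f).hom).1 hL x'
    refine ⟨U, V, a ≫ j.hom, b, h, u, repWith_comp _ hae (repWith_etale_of_openImmersion hj), hbe,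
      ?_, ?_, hQ⟩
    · rw [Category.assoc]
      exact comm
    · rw [← AlgSp.Points.map_ofPt, hux]

end Groth.Agent.S9993
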